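import Cfsg.Agent.M11Order.Base
import Cfsg.Agent.Blocks.OrderP.Principal
import Cfsg.Agent.Blocks.Orth.Blocks
import Cfsg.Agent.PSLSmall.Setting
import Cfsg.Agent.Sieve.Card7920
import Cfsg.Agent.Eq.Def_Blocks
import Mathlib

/-!
# Simple groups of order 7920: the primes 11 and 5
-/

set_option autoImplicit false
set_option linter.style.haveILetI false

namespace CfsgLib.M11Order

open Cfsg CfsgLib.Chars CfsgLib.SylowToolkit Subgroup MulAction
open scoped ComplexConjugate Pointwise

universe u

variable {G : Type u} [Group G] [Finite G]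

theorem centralizer_zpowers (g : G) : centralizer (zpowers g : Set G) = centralizer ({g} : Set G) := by
  refine le_antisymm (centralizer_le (Set.singleton_subset_iff.mpr (mem_zpowers g))) fun x hx => ?_
  refine mem_centralizer_iff.mpr fun y hy => ?_
  obtain ⟨k, rfl⟩ := mem_zpowers_iff.mp hy
  exact ((show Commute x g from mem_centralizer_singleton_iff.mp hx).zpow_right k).eq.symm

theorem centralizer_pow_prime {p : ℕ} (hp : p.Prime) {g : G} (hg : orderOf g = p) {k : ℕ} (hk : ¬ p ∣ k) :
    centralizer ({g ^ k} : Set G) = centralizer ({g} : Set G) := by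
  rw [← centralizer_zpowers, ← centralizer_zpowers g]
  congr 2
  exact eq_of_le_of_card_ge (zpowers_le.mpr (pow_mem (mem_zpowers g) k)) (by
    rw [Nat.card_zpowers, Nat.card_zpowers,
      Nat.Coprime.orderOf_pow (by rw [hg]; exact (hp.coprime_iff_not_dvd).mpr hk)])

/-- Outside the principal block a self-centralizing Sylow subgroup of order `p` gives degrees
divisible by `p`, and zero values. -/
theorem outside_block [Fintype G] {p : ℕ} [hp : Fact p.Prime] {M : Ideal AlgInt} (hM : IsPModular p M)
    {u₀ : G} (hu : orderOf u₀ = p) (hidx : ¬ p ∣ (zpowers u₀).index)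
    (hC : Nat.card (centralizer ({u₀} : Set G)) = p) {χ : IrrCharacter G}
    (hχ : χ ∉ principalBlock M G) : p ∣ charDegree (χ : G → ℂ) ∧ (χ : G → ℂ) u₀ = 0 := by
  classical
  have hvan : ∀ i : ZMod p, i ≠ 0 → (χ : G → ℂ) (CfsgLib.Blocks.OrderP.upow u₀ i) = 0 := by
    intro i hi
    set v := CfsgLib.Blocks.OrderP.upow u₀ i with hv
    obtain ⟨-, -, hfus, -⟩ := CfsgLib.Blocks.OrderP.exists_local_data hu hidx (e := _) rfl
    have hblock := CfsgLib.Blocks.OrderP.sum_block_columns hM hu hidx hfus i i hi hi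
    have hCv : Nat.card (centralizer ({v} : Set G)) = p := by
      rw [hv, CfsgLib.Blocks.OrderP.upow, centralizer_pow_prime hp.out hu, hC]
      intro hd
      exact hi ((ZMod.val_eq_zero i).mp (Nat.eq_zero_of_dvd_of_lt hd i.val_lt))
    rw [if_pos (CfsgLib.Blocks.OrderP.mem_rootSet.mpr (by rw [div_self hi, one_pow]))] at hblock
    simp only [← CfsgLib.Blocks.OrderP.conj_apply_upow hu] at hblock
    have hall := sum_irr_mul_conj v v
    rw [if_pos (IsConj.refl v), hCv] at hall
    set B := (principalBlock M G).toFinite.toFinset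
    rw [← Finset.sum_add_sum_compl B, hblock, add_eq_left] at hall
    have hre : ∑ ψ ∈ Bᶜ, Complex.normSq ((ψ : G → ℂ) v) = 0 := by
      apply Complex.ofReal_injective
      rw [Complex.ofReal_sum, Complex.ofReal_zero, ← hall]
      exact Finset.sum_congr rfl fun ψ _ => (Complex.mul_conj _).symm
    have h0 := (Finset.sum_eq_zero_iff_of_nonneg fun ψ _ => Complex.normSq_nonneg _).mp hre χ
      (by simpa [B] using hχ)
    exact Complex.normSq_eq_zero.mp h0
  refine ⟨?_, by simpa [CfsgLib.Blocks.OrderP.upow_one hu] using hvan 1 one_ne_zero⟩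
  letI := Fintype.ofFinite (zpowers u₀)
  obtain ⟨m, hm⟩ := CfsgLib.Blocks.exists_sum_subgroup_eq χ (zpowers u₀)
  rw [Finset.sum_eq_single (1 : zpowers u₀), OneMemClass.coe_one, ← coe_charDegree, Nat.card_zpowers, hu] at hm
  · exact ⟨m, by exact_mod_cast hm⟩
  · intro x _ hx
    obtain ⟨i, hi⟩ := (CfsgLib.Blocks.OrderP.mem_zpowers_iff_upow hu).mp x.2
    rw [hi]
    refine hvan i fun e => hx (Subtype.ext ?_)
    rw [hi, e, CfsgLib.Blocks.OrderP.upow_zero hu, OneMemClass.coe_one]
  · simp

theorem key_degrees : ∀ d ∈ Finset.range 40, ∀ f ∈ Finset.range 41, (f = d - 1 ∨ f = d + 1) ∧ 1 < f ∧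
    d ∣ 7920 ∧ f ∣ 7920 ∧ (f % 11 = 1 ∨ f % 11 = 10) ∧ (d % 11 = 2 ∨ d % 11 = 9) → f = 10 := by
  decide +kernel

variable [IsSimpleGroup G] (h : Nat.card G = 7920)

include h

theorem not_comm7920 : ¬ IsMulCommutative G := not_isMulCommutative_of_not_prime (by rw [h]; norm_num)

theorem card_sylow_eleven [Fact (Nat.Prime 11)] : Nat.card (Sylow 11 G) = 144 := by
  classical
  haveI := Fintype.ofFinite G
  have hc := not_comm7920 h
  obtain ⟨P⟩ := (inferInstance : Nonempty (Sylow 11 G))
  have hP : Nat.card (P : Subgroup G) = 11 := by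
    rw [card_sylow_subgroup_eq (k := 1) (m := 720) (by rw [h]; norm_num) (by norm_num) P, pow_one]
  have hmem := card_sylow_mem_candidates (p := 11) (G := G) (k := 1) (m := 720) (by rw [h]; norm_num) (by norm_num)
  have key : ∀ n ∈ (720 : ℕ).divisors.filter (fun n => n % 11 = 1), 1 < n → n = 12 ∨ n = 45 ∨ n = 144 := by
    decide +kernel
  rcases key _ hmem (one_lt_card_sylow hc (by rw [h]; norm_num)) with hn | hn | hn
  · exfalso
    obtain ⟨D, hD⟩ := CfsgLib.PSLSmall.exists_setting hc P hP hn
    have h1 := D.card_G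
    rw [hD, h] at h1
    have h2 := Nat.le_of_dvd (by norm_num) (hD ▸ D.d_dvd)
    omega
  · exfalso
    obtain ⟨u₀, hu, hz, hidx⟩ := CfsgLib.Blocks.OrderP.exists_generator_sylow P hP
    obtain ⟨M, hM⟩ := CfsgLib.Blocks.exists_isPModular 11 (by norm_num)
    haveI := CfsgLib.Blocks.isMaximal_of_isPModular hM
    have hN : Nat.card (normalizer ((P : Subgroup G) : Set G)) = 176 := by
      have := card_normalizer_mul P
      rw [hn, h] at this
      omega
    set C := centralizer ((P : Subgroup G) : Set G) with hC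
    have hr := relIndex_centralizer_dvd_sub_one P hP
    have hne := not_normalizer_le_centralizer hc (by rw [h]; norm_num : 11 ∣ Nat.card G) P
    have hmul := relIndex_mul_relIndex (⊥ : Subgroup G) C (normalizer ((P : Subgroup G) : Set G)) bot_le
      (centralizer_le_normalizer _)
    rw [relIndex_bot_left, relIndex_bot_left, hN] at hmul
    have he2 : C.relIndex (normalizer ((P : Subgroup G) : Set G)) = 2 := by
      have hne1 : C.relIndex (normalizer ((P : Subgroup G) : Set G)) ≠ 1 := fun e => hne (relIndex_eq_one.mp e)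
      have key' : ∀ r ∈ (176 : ℕ).divisors, r ∣ 10 → r ≠ 1 → r = 2 := by decide +kernel
      exact key' _ (Nat.mem_divisors.mpr ⟨⟨_, by rw [mul_comm]; exact hmul.symm⟩, by norm_num⟩) hr hne1
    obtain ⟨X, Y, hd, hB, hX, hY, εX, ε, hε, hXp, hYp, hrel⟩ :=
      CfsgLib.Blocks.OrderP.principal_block_structure hM hu hidx (e := 2) (by rw [hz]; exact he2)
    have hone : oneChar G ∈ X := by
      refine ((hB _).mp CfsgLib.Blocks.oneChar_mem_principalBlock).resolve_right fun hmemY => ?_
      have h1 := hYp _ hmemY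
      rw [charDegree_eq_of_map_one (n := 1) (by rw [oneChar_apply, Nat.cast_one])] at h1
      rcases hε with rfl | rfl <;> exact absurd h1 (by decide)
    obtain ⟨χ, hχ⟩ := Finset.card_eq_one.mp (show (X.erase (oneChar G)).card = 1 by
      rw [Finset.card_erase_of_mem hone, hX])
    have hXe : X = insert (oneChar G) {χ} := by rw [← hχ, Finset.insert_erase hone]
    have hχ1 : χ ≠ oneChar G := fun e => absurd (hχ.ge (Finset.mem_singleton_self χ)) (by simp [e])
    have hχX : χ ∈ X := by rw [hXe]; simp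
    have hε1 : εX (oneChar G) = 1 := by
      obtain ⟨hs, hcong, -⟩ := hXp _ hone
      rw [charDegree_eq_of_map_one (n := 1) (by rw [oneChar_apply, Nat.cast_one])] at hcong
      rcases hs with e | e
      · exact e
      · rw [e] at hcong; exact absurd hcong (by decide)
    obtain ⟨hδ, hfc, hval⟩ := hXp χ hχX
    obtain ⟨θ, hθ⟩ := Finset.card_pos.mp (show 0 < Y.card by rw [hY]; norm_num)
    have h1 := hrel θ hθ 1 (by simp)
    rw [hXe, Finset.sum_pair hχ1.symm, hε1, oneChar_apply, ← coe_charDegree, ← coe_charDegree] at h1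
    have h1' : ε * (charDegree (θ : G → ℂ) : ℤ) = 1 + εX χ * (charDegree (χ : G → ℂ) : ℤ) := by
      have h1'' : ((ε * (charDegree (θ : G → ℂ) : ℤ) : ℤ) : ℂ) =
          ((1 + εX χ * (charDegree (χ : G → ℂ) : ℤ) : ℤ) : ℂ) := by push_cast; linear_combination h1
      exact_mod_cast h1''
    have hθd := hYp θ hθ
    -- squares
    set f := charDegree (χ : G → ℂ)
    set d := charDegree (θ : G → ℂ)
    have hle : 1 + f ^ 2 + 5 * d ^ 2 ≤ 7920 := by
      have hYd : ∀ θ' ∈ Y, charDegree (θ' : G → ℂ) = d := by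
        intro θ' hθ'
        have h2 := hrel θ' hθ' 1 (by simp)
        have h3 := hrel θ hθ 1 (by simp)
        rw [← h3, ← coe_charDegree, ← coe_charDegree] at h2
        have hε0 : (ε : ℂ) ≠ 0 := by rcases hε with rfl | rfl <;> norm_num
        exact_mod_cast mul_left_cancel₀ hε0 h2
      have := sum_charDegree_sq (G := G)
      rw [h] at this
      rw [← this]
      refine le_trans ?_ (Finset.sum_le_sum_of_subset (Finset.subset_univ (X ∪ Y)))
      rw [Finset.sum_union hd, hXe, Finset.sum_pair hχ1.symm,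
        Finset.sum_congr rfl (fun θ' hθ' => by rw [hYd θ' hθ']) , Finset.sum_const, hY, smul_eq_mul,
        charDegree_eq_of_map_one (n := 1) (by rw [oneChar_apply, Nat.cast_one])]
      norm_num
      exact le_rfl
    have hf1 := one_lt_charDegree hc hχ1
    have hf7 : f ∣ 7920 := h ▸ charDegree_dvd_card χ
    have hd7 : d ∣ 7920 := h ▸ charDegree_dvd_card θ
    have hd39 : d ≤ 39 := by nlinarith
    have hmod : ∀ (n : ℕ) (a : ℤ) (r : ℕ), (n : ℤ) ≡ a [ZMOD 11] → a % 11 = r → n % 11 = r := by
      intro n a r h' hr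
      unfold Int.ModEq at h'
      omega
    have hfd : f = 10 ∧ εX χ = -1 := by
      rcases hδ with e | e <;> rcases hε with rfl | rfl <;> rw [e] at h1' hfc <;>
        push_cast at h1' hθd hfc
      all_goals
        have hfm : f % 11 = 1 ∨ f % 11 = 10 := by unfold Int.ModEq at hfc; omega
        have hdm : d % 11 = 2 ∨ d % 11 = 9 := by unfold Int.ModEq at hθd; omega
        have := key_degrees d (Finset.mem_range.mpr (by omega)) f (Finset.mem_range.mpr (by omega))
          ⟨by omega, hf1, hd7, hf7, hfm, hdm⟩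
        refine ⟨this, ?_⟩
        unfold Int.ModEq at hfc
        omega
    -- an involution in `C` lies in the kernel
    obtain ⟨⟨y, hyC⟩, hy2⟩ := exists_prime_orderOf_dvd_card' (G := C) 2 (by
      rw [he2] at hmul
      exact ⟨44, by omega⟩)
    rw [orderOf_mk] at hy2
    rw [hC, ← hz, centralizer_zpowers] at hyC
    have hyu : Commute y u₀ := mem_centralizer_singleton_iff.mp hyC
    have hy1 : y ≠ 1 := fun e => by rw [e, orderOf_one] at hy2; norm_num at hy2
    have hyr : ¬ 11 ∣ orderOf y := by rw [hy2]; norm_num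
    set g := u₀ * y
    have hg : orderOf g = 22 := by
      rw [hyu.symm.orderOf_mul_eq_mul_orderOf_of_coprime (by rw [hu, hy2]; norm_num), hu, hy2]
    letI := Fintype.ofFinite (zpowers g)
    obtain ⟨m, hm⟩ := CfsgLib.Blocks.exists_sum_subgroup_eq χ (zpowers g)
    obtain ⟨v, hv⟩ := (CfsgLib.Blocks.exists_sum_subgroup_eq χ (zpowers y) : _)
    have hcz : Fintype.card (zpowers g) = 22 := by rw [← Nat.card_eq_fintype_card, Nat.card_zpowers, hg]
    -- the values on the cyclic group
    have hvals : ∀ x : zpowers g, (x : G) ≠ 1 → (x : G) ≠ y → (χ : G → ℂ) x = -1 := by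
      intro x hx1 hxy
      obtain ⟨k, hk⟩ := (Submonoid.mem_powers_iff _ _).mp (mem_powers_iff_mem_zpowers.mpr x.2)
      rw [← hk, hyu.symm.mul_pow] at hx1 hxy ⊢
      have hyk : y ^ k = 1 ∨ y ^ k = y := by
        rcases Nat.even_or_odd k with ⟨l, rfl⟩ | ⟨l, rfl⟩
        · left; rw [← two_mul, pow_mul, show y ^ 2 = 1 by rw [← hy2, pow_orderOf_eq_one], one_pow]
        · right; rw [pow_succ, pow_mul, show y ^ 2 = 1 by rw [← hy2, pow_orderOf_eq_one], one_pow, one_mul]
      have huk : u₀ ^ k ≠ 1 := fun e => by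
        rcases hyk with e' | e' <;> rw [e, e', one_mul] at hx1 hxy
        · exact hx1 rfl
        · exact hxy rfl
      rcases hyk with e' | e' <;> rw [e']
      · rw [hval _ (pow_mem (mem_zpowers u₀) k) huk 1 (Commute.one_left _) (by simp), hfd.2]
        norm_num
      · rw [hval _ (pow_mem (mem_zpowers u₀) k) huk y hyu hyr, hfd.2]
        norm_num
    have hymem : y ∈ zpowers g := by
      have : g ^ 11 = y := by
        rw [hyu.symm.mul_pow, ← hu, pow_orderOf_eq_one, one_mul, hu, show 11 = 2 * 5 + 1 by norm_num,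
          pow_succ, pow_mul, show y ^ 2 = 1 by rw [← hy2, pow_orderOf_eq_one], one_pow, one_mul]
      rw [← this]
      exact pow_mem (mem_zpowers g) 11
    rw [← Finset.add_sum_erase _ _ (Finset.mem_univ (1 : zpowers g)),
      ← Finset.add_sum_erase _ _ (show (⟨y, hymem⟩ : zpowers g) ∈ Finset.univ.erase 1 from
        Finset.mem_erase.mpr ⟨fun e => hy1 (congrArg Subtype.val e), Finset.mem_univ _⟩),
      Finset.sum_congr rfl (fun x hx => hvals x
        (fun e => (Finset.mem_erase.mp (Finset.mem_erase.mp hx).2).1 (Subtype.ext e))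
        (fun e => (Finset.mem_erase.mp hx).1 (Subtype.ext e))),
      Finset.sum_const, Finset.card_erase_of_mem (Finset.mem_erase.mpr
        ⟨fun e => hy1 (congrArg Subtype.val e), Finset.mem_univ _⟩), Finset.card_erase_of_mem (Finset.mem_univ _),
      Finset.card_univ, hcz, OneMemClass.coe_one, ← coe_charDegree, show charDegree (χ : G → ℂ) = 10 from hfd.1,
      Nat.card_zpowers, hg] at hm
    have hyval : (χ : G → ℂ) y = 22 * (m : ℂ) + 10 := by push_cast at hm; linear_combination hm
    have hle10 := norm_apply_le (isCharacter_coe χ) y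
    rw [← coe_charDegree, show charDegree (χ : G → ℂ) = 10 from hfd.1, hyval,
      show (22 * (m : ℂ) + 10) = ((22 * m + 10 : ℕ) : ℂ) by push_cast; ring, Complex.norm_natCast,
      Complex.norm_natCast] at hle10
    have hm0 : m = 0 := by
      have : (22 * m + 10) ≤ 10 := by exact_mod_cast hle10
      omega
    refine hy1 (eq_one_of_norm_eq hc hχ1 ?_)
    rw [hyval, show charDegree (χ : G → ℂ) = 10 from hfd.1, hm0]
    norm_num
  · exact hn

theorem eleven_facts' [Fact (Nat.Prime 11)] (P : Sylow 11 G) :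
    Nat.card (P : Subgroup G) = 11 ∧ centralizer ((P : Subgroup G) : Set G) = (P : Subgroup G) ∧
      Nat.card (normalizer ((P : Subgroup G) : Set G)) = 55 := by
  have hP : Nat.card (P : Subgroup G) = 11 := by
    rw [card_sylow_subgroup_eq (k := 1) (m := 720) (by rw [h]; norm_num) (by norm_num) P, pow_one]
  have hN : Nat.card (normalizer ((P : Subgroup G) : Set G)) = 55 := by
    have := card_normalizer_mul P
    rw [card_sylow_eleven h, h] at this
    omega
  refine ⟨hP, ?_, hN⟩
  have hnle := not_normalizer_le_centralizer (not_comm7920 h) (by rw [h]; norm_num : 11 ∣ Nat.card G) P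
  have hcyc : IsCyclic (P : Subgroup G) := isCyclic_of_prime_card hP
  have hle : (P : Subgroup G) ≤ centralizer ((P : Subgroup G) : Set G) := fun a ha =>
    mem_centralizer_iff.mpr fun b hb => congrArg Subtype.val (hcyc.commGroup.mul_comm ⟨b, hb⟩ ⟨a, ha⟩)
  have h1 := card_dvd_of_le (centralizer_le_normalizer ((P : Subgroup G) : Set G))
  have h2 := card_dvd_of_le hle
  rw [hN] at h1
  rw [hP] at h2
  have key : ∀ n ∈ (55 : ℕ).divisors, 11 ∣ n → n = 11 ∨ n = 55 := by decide
  rcases key _ (Nat.mem_divisors.mpr ⟨h1, by norm_num⟩) h2 with e | e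
  · exact (eq_of_le_of_card_ge hle (by rw [e, hP])).symm
  · exact absurd (eq_of_le_of_card_ge (centralizer_le_normalizer _) (by rw [e, hN])).ge hnle

/-- The normalizer of a Sylow 5-subgroup has order 20 and its centralizer order 5 or 10. -/
theorem five_facts [Fact (Nat.Prime 5)] (Q : Sylow 5 G) :
    Nat.card (Q : Subgroup G) = 5 ∧ Nat.card (normalizer ((Q : Subgroup G) : Set G)) = 20 ∧
      (Nat.card (centralizer ((Q : Subgroup G) : Set G)) = 5 ∨
        Nat.card (centralizer ((Q : Subgroup G) : Set G)) = 10) := by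
  classical
  haveI : Fact (Nat.Prime 11) := ⟨by norm_num⟩
  have hc := not_comm7920 h
  have hQ : Nat.card (Q : Subgroup G) = 5 := by
    rw [card_sylow_subgroup_eq (k := 1) (m := 1584) (by rw [h]; norm_num) (by norm_num) Q, pow_one]
  have hn := card_sylow_eleven h
  -- a conjugate of `Q` inside some `N(P)`
  obtain ⟨P₀⟩ := (inferInstance : Nonempty (Sylow 11 G))
  obtain ⟨⟨y₀, hy₀N⟩, hy₀⟩ := exists_prime_orderOf_dvd_card' (G := normalizer ((P₀ : Subgroup G) : Set G)) 5
    (by rw [(eleven_facts' h P₀).2.2]; norm_num)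
  rw [orderOf_mk] at hy₀
  obtain ⟨Q₀, hQ₀⟩ := (IsPGroup.of_card (n := 1) (show Nat.card (zpowers y₀) = 5 ^ 1 by
    rw [Nat.card_zpowers, hy₀, pow_one])).exists_le_sylow
  have hQ₀' : zpowers y₀ = (Q₀ : Subgroup G) := eq_of_le_of_card_ge hQ₀ (by
    rw [card_sylow_subgroup_congr Q₀ Q, hQ, Nat.card_zpowers, hy₀])
  obtain ⟨g, hg⟩ := exists_smul_eq G Q₀ Q
  set P := g • P₀
  set y := g * y₀ * g⁻¹
  have hy : orderOf y = 5 :=
    (orderOf_injective (MulAut.conj g).toMonoidHom (MulAut.conj g).injective y₀).trans hy₀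
  have hyQ : zpowers y = (Q : Subgroup G) := by
    rw [← hg, Sylow.coe_subgroup_smul, ← hQ₀']
    exact (MonoidHom.map_zpowers (MulAut.conj g).toMonoidHom y₀).symm
  have hyP : y • P = P := by
    show y • g • P₀ = g • P₀
    rw [← mul_smul, show y * g = g * y₀ by simp [y], mul_smul, Sylow.smul_eq_iff_mem_normalizer.mpr hy₀N]
  obtain ⟨hP, hCP, hNP⟩ := eleven_facts' h P
  set N := normalizer ((Q : Subgroup G) : Set G) with hN
  set F := fixedBy (Sylow 11 G) y with hF
  -- `N(Q)` is transitive on the fixed points, with stabilizers of order 5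
  have hQfix : ∀ R ∈ F, (Q : Subgroup G) ≤ normalizer ((R : Subgroup G) : Set G) := fun R hR =>
    hyQ ▸ zpowers_le.mpr (Sylow.smul_eq_iff_mem_normalizer.mp hR)
  have hstab : N ⊓ normalizer ((P : Subgroup G) : Set G) = (Q : Subgroup G) := by
    refine (eq_of_le_of_card_ge (le_inf le_normalizer (hQfix P hyP)) ?_).symm
    rw [hQ]
    have h1 := card_dvd_of_le (inf_le_right : N ⊓ normalizer ((P : Subgroup G) : Set G) ≤ _)
    rw [hNP] at h1
    have key : ∀ n ∈ (55 : ℕ).divisors, n ≤ 5 ∨ n = 11 ∨ n = 55 := by decide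
    rcases key _ (Nat.mem_divisors.mpr ⟨h1, by norm_num⟩) with e | e | e
    · exact e
    all_goals
      exfalso
      obtain ⟨⟨d, hd⟩, hd11⟩ := exists_prime_orderOf_dvd_card' (G := (N ⊓ normalizer ((P : Subgroup G) : Set G) : Subgroup G)) 11
        (by rw [e]; try norm_num)
      rw [orderOf_mk] at hd11
      have hdP : d ∈ (P : Subgroup G) := mem_of_smul_eq (IsPGroup.of_card (n := 1) (show Nat.card (zpowers d) = 11 ^ 1 by
        rw [Nat.card_zpowers, hd11, pow_one])) (Sylow.smul_eq_iff_mem_normalizer.mpr (mem_inf.mp hd).2)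
      have h1 : d * y * d⁻¹ * y⁻¹ ∈ (Q : Subgroup G) :=
        mul_mem ((mem_normalizer_iff.mp (mem_inf.mp hd).1 y).mp (hyQ ▸ mem_zpowers y)) (inv_mem (hyQ ▸ mem_zpowers y))
      have h2 : d * y * d⁻¹ * y⁻¹ ∈ (P : Subgroup G) := by
        rw [mul_assoc, mul_assoc, ← mul_assoc y]
        exact mul_mem hdP ((mem_normalizer_iff.mp (Sylow.smul_eq_iff_mem_normalizer.mp hyP) _).mp (inv_mem hdP))
      have a1 := Subgroup.orderOf_dvd_natCard (s := (Q : Subgroup G)) h1
      have a2 := Subgroup.orderOf_dvd_natCard (s := (P : Subgroup G)) h2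
      rw [hQ] at a1
      rw [hP] at a2
      have h3 := orderOf_eq_one_iff.mp (Nat.dvd_one.mp
        ((by norm_num : Nat.gcd 5 11 = 1) ▸ Nat.dvd_gcd a1 a2))
      rw [mul_inv_eq_one, mul_inv_eq_iff_eq_mul] at h3
      have hyC : y ∈ centralizer ((P : Subgroup G) : Set G) := by
        have hz : zpowers d = (P : Subgroup G) := eq_of_le_of_card_ge (zpowers_le.mpr hdP)
          (by rw [hP, Nat.card_zpowers, hd11])
        rw [← hz, centralizer_zpowers]
        exact mem_centralizer_singleton_iff.mpr h3.symm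
      rw [hCP] at hyC
      have := Subgroup.orderOf_dvd_natCard (s := (P : Subgroup G)) hyC
      rw [hy, hP] at this
      norm_num at this
  have hNF : ∀ n ∈ N, n • P ∈ F := by
    intro n hn'
    show y • n • P = n • P
    have hy' : n⁻¹ * y * n ∈ (Q : Subgroup G) := by
      have := (mem_normalizer_iff.mp (inv_mem hn') y).mp (hyQ ▸ mem_zpowers y)
      rwa [inv_inv] at this
    rw [← mul_smul, show y * n = n * (n⁻¹ * y * n) by group, mul_smul,
      Sylow.smul_eq_iff_mem_normalizer.mpr (hQfix P hyP hy')]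
  have hcardF : Nat.card N = 5 * F.ncard := by
    have horb : MulAction.orbit N P = F := by
      ext R
      constructor
      · rintro ⟨n, rfl⟩; exact hNF n n.2
      · intro hR
        obtain ⟨w, hw⟩ := exists_smul_eq G P R
        -- two Sylow 5-subgroups of `N(R)` are conjugate
        set NR := normalizer ((R : Subgroup G) : Set G)
        have hQR := hQfix R hR
        have hwQ : ((w • Q : Sylow 5 G) : Subgroup G) ≤ NR := by
          rw [Sylow.coe_subgroup_smul]
          rintro _ ⟨q, hq, rfl⟩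
          refine Sylow.smul_eq_iff_mem_normalizer.mp ?_
          show (w * q * w⁻¹) • R = R
          rw [← hw, mul_smul, mul_smul, inv_smul_smul, Sylow.smul_eq_iff_mem_normalizer.mpr (hQfix P hyP hq)]
        obtain ⟨n, hn'⟩ := exists_smul_eq NR ((w • Q : Sylow 5 G).subtype hwQ) (Q.subtype hQR)
        have hn'' : (n : G) • w • Q = Q := Sylow.subtype_injective (hP := Sylow.smul_le hwQ n) (hQ := hQR)
          ((Sylow.smul_subtype hwQ n).symm.trans hn')
        rw [← mul_smul] at hn''
        refine ⟨⟨(n : G) * w, Sylow.smul_eq_iff_mem_normalizer.mp hn''⟩, ?_⟩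
        show ((n : G) * w) • P = R
        rw [mul_smul, hw, Sylow.smul_eq_iff_mem_normalizer.mpr n.2]
    have h1 := (stabilizer N P).card_mul_index
    rw [index_stabilizer, horb] at h1
    rw [← h1]
    congr 1
    rw [← hQ, ← hstab]
    exact Nat.card_congr
      { toFun := fun a => ⟨(a.1 : G), mem_inf.mpr ⟨a.1.2, Sylow.smul_eq_iff_mem_normalizer.mp (mem_stabilizer_iff.mp a.2)⟩⟩
        invFun := fun a => ⟨⟨a.1, (mem_inf.mp a.2).1⟩,
          mem_stabilizer_iff.mpr (Sylow.smul_eq_iff_mem_normalizer.mpr (mem_inf.mp a.2).2)⟩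
        left_inv := fun a => rfl
        right_inv := fun a => rfl }
  have hmod : F.ncard % 5 = 4 := by
    have h1 := fixCount_modEq (G := G) (p := 11) (x := y)
    have hp : IsPGroup 5 (zpowers y) := IsPGroup.of_card (n := 1) (by rw [Nat.card_zpowers, hy, pow_one])
    have hmod := hp.card_modEq_card_fixedPoints (Sylow 11 G)
    have heq : fixedPoints (zpowers y) (Sylow 11 G) = F := by
      ext R
      constructor
      · intro hR; exact hR ⟨y, mem_zpowers y⟩
      · intro hR k
        exact Sylow.smul_eq_iff_mem_normalizer.mpr (hQfix R hR (hyQ ▸ k.2))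
    rw [Nat.card_coe_set_eq, heq, hn] at hmod
    exact hmod.symm
  have hbound : F.ncard ≤ 14 := by
    -- at most one fixed point in each `P`-orbit
    let f : ↥(P : Subgroup G) × {R : Sylow 11 G // R ∈ F ∧ R ≠ P} → {R : Sylow 11 G // R ≠ P} :=
      fun a => ⟨(a.1 : G) • a.2.1, fun e => a.2.2.2 (by
        have := congrArg ((a.1 : G)⁻¹ • ·) e
        simp only [inv_smul_smul] at this
        rw [this]
        exact Sylow.smul_eq_iff_mem_normalizer.mpr (le_normalizer (inv_mem a.1.2)))⟩
    have hf : Function.Injective f := by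
      rintro ⟨u, R, hR, hRP⟩ ⟨v, R', hR', hRP'⟩ e
      have e' : (u : G) • R = (v : G) • R' := congrArg Subtype.val e
      set w := (v : G)⁻¹ * u with hw
      have hwP : w ∈ (P : Subgroup G) := mul_mem (inv_mem v.2) u.2
      have hwR : w • R = R' := by rw [hw, mul_smul, e', inv_smul_smul]
      have hRy : y • R = R := hR
      have hR'y : y • R' = R' := hR'
      have hyw : (y * w * y⁻¹) • R = R' := by rw [mul_smul, mul_smul, inv_smul_eq_iff.mpr hRy.symm, hwR, hR'y]
      have hmem : y * w * y⁻¹ ∈ (P : Subgroup G) :=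
        (mem_normalizer_iff.mp (Sylow.smul_eq_iff_mem_normalizer.mp hyP) w).mp hwP
      have hfix : (w⁻¹ * (y * w * y⁻¹)) • R = R := by rw [mul_smul, hyw, inv_smul_eq_iff, hwR]
      have h1 : w⁻¹ * (y * w * y⁻¹) = 1 := by
        set c := w⁻¹ * (y * w * y⁻¹)
        have hcP : c ∈ (P : Subgroup G) := mul_mem (inv_mem hwP) hmem
        have hcR := mem_of_smul_eq (IsPGroup.to_le P.isPGroup' (zpowers_le.mpr hcP)) hfix
        by_contra hc1
        have hz : zpowers c = (P : Subgroup G) := eq_of_le_of_card_ge (zpowers_le.mpr hcP) (by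
          have hd := Subgroup.orderOf_dvd_natCard (s := (P : Subgroup G)) hcP
          rw [hP, Nat.dvd_prime (by norm_num)] at hd
          rw [hP, Nat.card_zpowers, hd.resolve_left fun e => hc1 (orderOf_eq_one_iff.mp e)])
        exact hRP (Sylow.ext (eq_of_le_of_card_ge (hz.symm.le.trans (zpowers_le.mpr hcR))
          (by rw [card_sylow_subgroup_congr R P])).symm)
      have hcomm : y * w = w * y := mul_inv_eq_iff_eq_mul.mp (inv_mul_eq_one.mp h1).symm
      have hw1 : w = 1 := by
        by_contra hw1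
        have hz : zpowers w = (P : Subgroup G) := eq_of_le_of_card_ge (zpowers_le.mpr hwP) (by
          have hd := Subgroup.orderOf_dvd_natCard (s := (P : Subgroup G)) hwP
          rw [hP, Nat.dvd_prime (by norm_num)] at hd
          rw [hP, Nat.card_zpowers, hd.resolve_left fun e => hw1 (orderOf_eq_one_iff.mp e)])
        have hyC : y ∈ (P : Subgroup G) := by
          rw [← hCP, ← hz, centralizer_zpowers]
          exact mem_centralizer_singleton_iff.mpr hcomm
        have := Subgroup.orderOf_dvd_natCard (s := (P : Subgroup G)) hyC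
        rw [hy, hP] at this
        norm_num at this
      obtain rfl : u = v := Subtype.ext (inv_mul_eq_one.mp hw1).symm
      obtain rfl : R = R' := by rw [← hwR, hw1, one_smul]
      rfl
    haveI := Fintype.ofFinite (Sylow 11 G)
    have := Nat.card_le_card_of_injective f hf
    rw [Nat.card_prod, hP, Nat.card_eq_fintype_card (α := {R : Sylow 11 G // R ≠ P}), Fintype.card_subtype_compl,
      Fintype.card_subtype_eq, ← Nat.card_eq_fintype_card, hn] at this
    have h2 : Nat.card {R : Sylow 11 G // R ∈ F ∧ R ≠ P} = F.ncard - 1 := by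
      show (F \ {P}).ncard = _
      rw [Set.ncard_sdiff_singleton_of_mem (show P ∈ F from hyP)]
    omega
  have hN20 : Nat.card N = 20 ∨ Nat.card N = 45 ∨ Nat.card N = 70 := by omega
  have hNd : Nat.card N ∣ 7920 := h ▸ card_subgroup_dvd_card N
  have hnle := not_normalizer_le_centralizer hc (by rw [h]; norm_num : 5 ∣ Nat.card G) Q
  have hr := relIndex_centralizer_dvd_sub_one Q hQ
  have hmul := relIndex_mul_relIndex (⊥ : Subgroup G) (centralizer ((Q : Subgroup G) : Set G)) N bot_le
    (centralizer_le_normalizer _)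
  rw [relIndex_bot_left, relIndex_bot_left] at hmul
  have hne1 : (centralizer ((Q : Subgroup G) : Set G)).relIndex N ≠ 1 := fun e => hnle (relIndex_eq_one.mp e)
  have key4 : ∀ r ∈ (4 : ℕ).divisors, r ≠ 1 → r = 2 ∨ r = 4 := by decide
  refine ⟨hQ, ?_, ?_⟩
  all_goals
    rcases key4 _ (Nat.mem_divisors.mpr ⟨hr, by norm_num⟩) hne1 with e | e <;> rw [e] at hmul <;>
      rcases hN20 with e' | e' | e' <;> rw [e'] at hmul hNd <;> first | omega | (norm_num at hNd)

end CfsgLib.M11Order
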