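import Cfsg.Agent.Chars.Basic.ClassSum
import Cfsg.Agent.Chars.Basic.Linear
import Cfsg.Agent.Chars.Basic.Galois
import Cfsg.Agent.Blocks.Orth.ClassMult
import Cfsg.Agent.SylowToolkit.Basic
import Mathlib

/-!
# Character facts for simple groups, used for the order 7920
-/

set_option autoImplicit false
set_option linter.style.haveILetI false

namespace CfsgLib.M11Order

open Cfsg CfsgLib.Chars
open scoped ComplexConjugate

universe u

variable {G : Type u} [Group G] [Finite G] [IsSimpleGroup G]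

theorem eq_oneChar_of_degree (hc : ¬ IsMulCommutative G) (χ : IrrCharacter G)
    (h : charDegree (χ : G → ℂ) = 1) : χ = oneChar G := by
  obtain ⟨l, hl⟩ := exists_linChar_eq χ (by rw [← coe_charDegree χ, h, Nat.cast_one])
  rw [← hl, linChar_eq_oneChar_iff]
  rcases IsSimpleGroup.eq_bot_or_eq_top_of_normal l.ker inferInstance with hk | hk
  · exact absurd ⟨⟨fun a b => (MonoidHom.ker_eq_bot_iff l).mp hk (by rw [map_mul, map_mul, mul_comm])⟩⟩ hc
  · exact MonoidHom.ext fun g => MonoidHom.mem_ker.mp (hk ▸ Subgroup.mem_top g)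

theorem one_lt_charDegree (hc : ¬ IsMulCommutative G) {χ : IrrCharacter G} (h : χ ≠ oneChar G) :
    1 < charDegree (χ : G → ℂ) := by
  have h1 := charDegree_pos χ
  by_contra hlt
  exact h (eq_oneChar_of_degree hc χ (by omega))

/-- A nontrivial character of a simple group takes its degree as absolute value only at `1`. -/
theorem eq_one_of_norm_eq (hc : ¬ IsMulCommutative G) {χ : IrrCharacter G} (h : χ ≠ oneChar G) {g : G}
    (hg : ‖(χ : G → ℂ) g‖ = charDegree (χ : G → ℂ)) : g = 1 := by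
  obtain ⟨n, ρ, hρ, hχ⟩ := χ.2
  have hn : charDegree (χ : G → ℂ) = n := charDegree_eq_of_map_one (by
    rw [← hχ, Representation.char_one]; simp)
  rw [hn] at hg
  have hn0 : n ≠ 0 := fun e => (charDegree_pos χ).ne' (hn.trans e)
  have hs := rep_eq_smul_of_norm_character_eq ρ hn0 (by rw [hχ]; exact hg)
  have hker : charKer (χ : G → ℂ) = ⊥ := by
    refine (IsSimpleGroup.eq_bot_or_eq_top_of_normal _ inferInstance).resolve_right fun e => ?_
    have hall : ∀ x : G, ρ x = 1 := fun x => (mem_charKer_iff_rep ρ x).mp (by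
      rw [hχ, e]; exact Subgroup.mem_top x)
    have hone : ∀ x : G, (χ : G → ℂ) x = n := fun x => by
      rw [← hχ]; simp [Representation.character, hall x]
    haveI := Fintype.ofFinite G
    have h1 := classInner_self χ
    simp only [classInner, hone, map_natCast, Finset.sum_const, Finset.card_univ, nsmul_eq_mul,
      ← Nat.card_eq_fintype_card, inv_mul_cancel_left₀ natCard_ne_zero] at h1
    have : n * n = 1 := by exact_mod_cast h1
    exact h (eq_oneChar_of_degree hc χ (hn.trans (Nat.eq_one_of_mul_eq_one_right this)))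
  have hcen : g ∈ Subgroup.center G := Subgroup.mem_center_iff.mpr fun x => by
    have hx : x * g * x⁻¹ * g⁻¹ ∈ charKer (χ : G → ℂ) := by
      rw [← hχ, mem_charKer_iff_rep, map_mul, map_mul, map_mul, hs, mul_smul_comm, mul_one,
        smul_mul_assoc, ← map_mul, mul_inv_cancel, map_one]
      rw [← hs, ← map_mul, mul_inv_cancel, map_one]
    rw [hker, Subgroup.mem_bot, mul_inv_eq_one, mul_inv_eq_iff_eq_mul] at hx
    exact hx
  rcases IsSimpleGroup.eq_bot_or_eq_top_of_normal (Subgroup.center G) inferInstance with e | e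
  · exact Subgroup.mem_bot.mp (e ▸ hcen)
  · exact absurd ⟨⟨fun a b => Subgroup.mem_center_iff.mp (e ▸ Subgroup.mem_top b) a⟩⟩ hc

/-- The class multiplication coefficient. -/
theorem sum_triple [Fintype G] (g h u : G) :
    (Nat.card G : ℂ) * ∑ χ : IrrCharacter G,
        (χ : G → ℂ) g * (χ : G → ℂ) h * conj ((χ : G → ℂ) u) / (χ : G → ℂ) 1 =
      (Nat.card (Subgroup.centralizer ({u} : Set G)) : ℂ) *
        Nat.card {a : G // IsConj (g * (a * h * a⁻¹)) u} := by
  classical
  have e : ∀ χ : IrrCharacter G, (Nat.card G : ℂ) *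
      ((χ : G → ℂ) g * (χ : G → ℂ) h * conj ((χ : G → ℂ) u) / (χ : G → ℂ) 1) =
      ∑ a : G, (χ : G → ℂ) (g * (a * h * a⁻¹)) * conj ((χ : G → ℂ) u) := fun χ => by
    rw [← Finset.sum_mul, sum_map_mul_conjugate]
    ring
  rw [Finset.mul_sum, Finset.sum_congr rfl fun χ _ => e χ, Finset.sum_comm]
  simp only [sum_irr_mul_conj]
  rw [Nat.card_eq_fintype_card (α := {a : G // IsConj (g * (a * h * a⁻¹)) u}), Fintype.card_subtype,
    Finset.card_filter, Nat.cast_sum, Finset.mul_sum]
  refine Finset.sum_congr rfl fun a _ => ?_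
  split_ifs with hc
  · obtain ⟨c, hc'⟩ := isConj_iff.mp hc
    have hconj : (Subgroup.centralizer ({g * (a * h * a⁻¹)} : Set G)).map (MulAut.conj c).toMonoidHom =
        Subgroup.centralizer ({u} : Set G) := by
      ext x
      rw [Subgroup.mem_map_equiv, Subgroup.mem_centralizer_singleton_iff,
        Subgroup.mem_centralizer_singleton_iff, ← hc', MulAut.conj_symm_apply]
      constructor
      · intro hx
        calc x * (c * (g * (a * h * a⁻¹)) * c⁻¹) = c * ((c⁻¹ * x * c) * (g * (a * h * a⁻¹))) * c⁻¹ := by group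
          _ = c * (g * (a * h * a⁻¹)) * c⁻¹ * x := by rw [hx]; group
      · intro hx
        calc (c⁻¹ * x * c) * (g * (a * h * a⁻¹)) = c⁻¹ * (x * (c * (g * (a * h * a⁻¹)) * c⁻¹)) * c := by group
          _ = (g * (a * h * a⁻¹)) * (c⁻¹ * x * c) := by rw [hx]; group
    rw [← hconj, Subgroup.card_map_of_injective (MulAut.conj c).injective]
    simp
  · simp

/-- A sum over a cyclic group of prime order. -/
theorem exists_sum_zpowers [Fintype G] {p : ℕ} (hp : p.Prime) (χ : IrrCharacter G) {g : G}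
    (hg : orderOf g = p) :
    ∃ m : ℕ, ∑ i ∈ Finset.range p, (χ : G → ℂ) (g ^ i) = (p : ℂ) * m := by
  classical
  letI := Fintype.ofFinite (Subgroup.zpowers g)
  obtain ⟨m, hm⟩ := CfsgLib.Blocks.exists_sum_subgroup_eq χ (Subgroup.zpowers g)
  refine ⟨m, ?_⟩
  rw [Nat.card_zpowers, hg] at hm
  rw [← hm]
  refine Finset.sum_bij (fun i _ => (⟨g ^ i, Subgroup.pow_mem _ (Subgroup.mem_zpowers g) i⟩ : Subgroup.zpowers g))
    (fun i _ => Finset.mem_univ _) (fun i hi j hj e => ?_) (fun x _ => ?_) (fun i _ => rfl)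
  · exact pow_injOn_Iio_orderOf (hg.symm ▸ Finset.mem_range.1 hi) (hg.symm ▸ Finset.mem_range.1 hj)
      (congrArg Subtype.val e)
  · obtain ⟨i, hi, hix⟩ := Finset.mem_image.mp ((mem_zpowers_iff_mem_range_orderOf).mp x.2)
    exact ⟨i, hg ▸ hi, Subtype.ext hix⟩

/-- A real character value at an element of order 3 is an integer congruent to the degree. -/
theorem exists_int_of_real_three [Fintype G] (χ : IrrCharacter G) {z : G} (hz : orderOf z = 3)
    (hr : conj ((χ : G → ℂ) z) = (χ : G → ℂ) z) :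
    ∃ n : ℤ, (χ : G → ℂ) z = n ∧ (n : ℤ) ≡ (charDegree (χ : G → ℂ) : ℤ) [ZMOD 3] := by
  obtain ⟨m, hm⟩ := exists_sum_zpowers Nat.prime_three χ hz
  have hz2 : z ^ 2 = z⁻¹ := eq_inv_of_mul_eq_one_left (by rw [← pow_succ]; exact orderOf_dvd_iff_pow_eq_one.mp (by rw [hz]))
  rw [Finset.sum_range_succ, Finset.sum_range_succ, Finset.sum_range_succ, Finset.sum_range_zero,
    zero_add, pow_zero, pow_one, hz2, map_inv_eq_conj (isCharacter_coe χ), hr, ← coe_charDegree] at hm
  set v := (χ : G → ℂ) z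
  set f := charDegree (χ : G → ℂ)
  have h2 : 2 * v = ((3 * (m : ℤ) - f : ℤ) : ℂ) := by push_cast; linear_combination hm
  have hq : v = algebraMap ℚ ℂ (((3 * (m : ℤ) - f : ℤ) : ℚ) / 2) := by
    rw [map_div₀, map_intCast, map_ofNat]
    linear_combination h2 / 2
  have hint : IsIntegral ℤ (((3 * (m : ℤ) - f : ℤ) : ℚ) / 2) :=
    (isIntegral_algebraMap_iff (algebraMap ℚ ℂ).injective).mp (hq ▸ isIntegral_apply (isCharacter_coe χ) z)
  obtain ⟨n, hn⟩ := IsIntegrallyClosed.isIntegral_iff.mp hint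
  have hvn : v = (n : ℂ) := by rw [hq, ← hn]; simp
  refine ⟨n, hvn, ?_⟩
  rw [hvn] at h2
  have h2' : 2 * n = 3 * (m : ℤ) - f := by exact_mod_cast h2
  unfold Int.ModEq
  omega

/-- A character alone of its degree has real values. -/
theorem conj_eq_of_unique (χ : IrrCharacter G)
    (h : ∀ ψ : IrrCharacter G, charDegree (ψ : G → ℂ) = charDegree (χ : G → ℂ) → ψ = χ) (g : G) :
    conj ((χ : G → ℂ) g) = (χ : G → ℂ) g := by
  have hd : charDegree (conjChar χ : G → ℂ) = charDegree (χ : G → ℂ) := by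
    refine charDegree_eq_of_map_one ?_
    rw [conjChar_apply, conj_map_one (isCharacter_coe χ), coe_charDegree]
  conv_rhs => rw [← h (conjChar χ) hd]
  rw [conjChar_apply]

end CfsgLib.M11Order
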