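import Cfsg.Agent.M11Order.Sylow
import Cfsg.Agent.Chars.Brauer.Defect
import Mathlib

/-!
# The character degrees of a simple group of order 7920
-/

set_option autoImplicit false
set_option linter.style.haveILetI false

namespace CfsgLib.M11Order

open Cfsg CfsgLib.Chars CfsgLib.SylowToolkit
open scoped ComplexConjugate

universe u

/-- The degrees. -/
def degs : Fin 10 → ℕ := ![1, 10, 10, 10, 45, 16, 16, 11, 44, 55]

/-- What we know of the character table. -/
structure Table (G : Type u) [Group G] [Fintype G] where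
  χ : Fin 10 → IrrCharacter G
  bij : Function.Bijective χ
  deg : ∀ i, charDegree (χ i : G → ℂ) = degs i
  one : χ 0 = oneChar G
  u : G
  hu : orderOf u = 11
  hCu : Subgroup.centralizer ({u} : Set G) = Subgroup.zpowers u
  val₁ : (χ 1 : G → ℂ) u = -1
  val₂ : (χ 2 : G → ℂ) u = -1
  val₃ : (χ 3 : G → ℂ) u = -1
  val₄ : (χ 4 : G → ℂ) u = 1
  val₇ : (χ 7 : G → ℂ) u = 0
  val₈ : (χ 8 : G → ℂ) u = 0
  val₉ : (χ 9 : G → ℂ) u = 0
  val₅ : (χ 5 : G → ℂ) u + (χ 6 : G → ℂ) u = -1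
  y : G
  hy : orderOf y = 5
  hCy : Subgroup.centralizer ({y} : Set G) = Subgroup.zpowers y
  rel11 : ∀ g : G, ¬ 11 ∣ orderOf g →
    (χ 5 : G → ℂ) g = 1 - (χ 1 : G → ℂ) g - (χ 2 : G → ℂ) g - (χ 3 : G → ℂ) g + (χ 4 : G → ℂ) g ∧
      (χ 6 : G → ℂ) g = (χ 5 : G → ℂ) g
  rel5 : ∀ g : G, ¬ 5 ∣ orderOf g →
    1 + (χ 5 : G → ℂ) g + (χ 6 : G → ℂ) g + (χ 7 : G → ℂ) g - (χ 8 : G → ℂ) g = 0

theorem key_f : ∀ f ∈ Finset.range 89, f ∣ 720 ∧ 1 < f ∧ (f % 11 = 1 ∨ f % 11 = 10) →
    f = 10 ∨ f = 12 ∨ f = 45 := by decide +kernel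

theorem key_d : ∀ d ∈ Finset.range 63, d ∣ 720 ∧ (d % 11 = 5 ∨ d % 11 = 6) →
    d = 5 ∨ d = 6 ∨ d = 16 ∨ d = 60 := by decide +kernel

theorem key_options : ∀ a ∈ Finset.range 5, ∀ b ∈ Finset.range 5, ∀ c ∈ Finset.range 5,
    ∀ d ∈ ([5, 6, 16, 60] : List ℕ),
    (a + b + c = 4 ∧ (if d % 11 = 5 then (d : ℤ) else -(d : ℤ)) = 1 - 10 * a + 12 * b + 45 * c ∧
      1 + 100 * a + 144 * b + 2025 * c + 2 * d * d ≤ 7920) →
    (a = 3 ∧ b = 0 ∧ c = 1 ∧ d = 16) ∨ (a = 2 ∧ b = 2 ∧ c = 0 ∧ d = 5) := by decide +kernel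

theorem key_eleven : ∀ n ∈ Finset.range 89, n ∣ 7920 ∧ 11 ∣ n →
    n = 0 ∨ n = 11 ∨ n = 22 ∨ n = 33 ∨ n = 44 ∨ n = 55 ∨ n = 66 ∨ n = 88 := by decide +kernel

theorem key_consecutive : ∀ d ∈ ([1, 10, 45, 16, 11, 22, 33, 44, 55, 66] : List ℕ), ∀ f ∈ ([1, 10, 45, 16, 11, 22, 33, 44, 55, 66] : List ℕ),
    (f = d + 1 ∨ f + 1 = d) ∧ (f % 5 = 1 ∨ f % 5 = 4) → ¬ (d % 5 = 2 ∨ d % 5 = 3) := by decide +kernel

variable {G : Type u} [Group G] [Fintype G] [IsSimpleGroup G] (h : Nat.card G = 7920)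

include h

omit [IsSimpleGroup G] in
theorem sq_sum_le {S : Finset (IrrCharacter G)} :
    ∑ χ ∈ S, charDegree (χ : G → ℂ) ^ 2 ≤ 7920 := by
  have := sum_charDegree_sq (G := G)
  rw [h] at this
  rw [← this]
  exact Finset.sum_le_sum_of_subset (Finset.subset_univ S)

theorem exists_table : Nonempty (Table G) := by
  classical
  haveI h11 : Fact (Nat.Prime 11) := ⟨by norm_num⟩
  haveI h5 : Fact (Nat.Prime 5) := ⟨by norm_num⟩
  have hc := not_comm7920 h
  have h1deg : charDegree (oneChar G : G → ℂ) = 1 :=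
    charDegree_eq_of_map_one (by rw [oneChar_apply, Nat.cast_one])
  -- the prime 11
  obtain ⟨P⟩ := (inferInstance : Nonempty (Sylow 11 G))
  obtain ⟨hP, hCP, hNP⟩ := eleven_facts' h P
  obtain ⟨u, hu, hz, hidx⟩ := CfsgLib.Blocks.OrderP.exists_generator_sylow P hP
  obtain ⟨M, hM⟩ := CfsgLib.Blocks.exists_isPModular 11 (by norm_num)
  haveI := CfsgLib.Blocks.isMaximal_of_isPModular hM
  have hCu : Subgroup.centralizer ({u} : Set G) = Subgroup.zpowers u := by
    rw [← centralizer_zpowers, hz, hCP]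
  have hCu' : Nat.card (Subgroup.centralizer ({u} : Set G)) = 11 := by rw [hCu, Nat.card_zpowers, hu]
  have he5 : (Subgroup.centralizer (Subgroup.zpowers u : Set G)).relIndex
      (Subgroup.normalizer (Subgroup.zpowers u : Set G)) = 5 := by
    rw [hz]
    have hmul := Subgroup.relIndex_mul_relIndex (⊥ : Subgroup G) _ _ bot_le
      (Subgroup.centralizer_le_normalizer ((P : Subgroup G) : Set G))
    rw [Subgroup.relIndex_bot_left, Subgroup.relIndex_bot_left, hNP, hCP, hP] at hmul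
    rw [hCP]
    omega
  obtain ⟨X, Y, hd, hB, hX, hY, εX, ε, hε, hXp, hYp, hrel⟩ :=
    CfsgLib.Blocks.OrderP.principal_block_structure hM hu hidx he5
  have hone : oneChar G ∈ X := by
    refine ((hB _).mp CfsgLib.Blocks.oneChar_mem_principalBlock).resolve_right fun hmemY => ?_
    have h1 := hYp _ hmemY
    rw [h1deg] at h1
    rcases hε with rfl | rfl <;> exact absurd h1 (by decide)
  have hε1 : εX (oneChar G) = 1 := by
    obtain ⟨hs, hcong, -⟩ := hXp _ hone
    rw [h1deg] at hcong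
    rcases hs with e | e
    · exact e
    · rw [e] at hcong; exact absurd hcong (by decide)
  have hXv : ∀ χ ∈ X, (χ : G → ℂ) u = (εX χ : ℂ) := fun χ hχ => by
    simpa using (hXp χ hχ).2.2 u (Subgroup.mem_zpowers u) (fun e => by rw [e, orderOf_one] at hu; norm_num at hu)
      1 (Commute.one_left _) (by simp)
  have hout : ∀ χ, χ ∉ X → χ ∉ Y → 11 ∣ charDegree (χ : G → ℂ) ∧ (χ : G → ℂ) u = 0 := fun χ h1 h2 =>
    outside_block hM hu hidx hCu' fun hm => ((hB χ).mp hm).elim h1 h2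
  have hdvd720 : ∀ n, n ∣ 7920 → ¬ 11 ∣ n → n ∣ 720 := fun n hn h' =>
    (((Nat.Prime.coprime_iff_not_dvd (by norm_num : Nat.Prime 11)).mpr h').symm).dvd_of_dvd_mul_left
      (by rw [show 11 * 720 = 7920 by norm_num]; exact hn)
  set X' := X.erase (oneChar G) with hX'
  have hX'4 : X'.card = 4 := by rw [hX', Finset.card_erase_of_mem hone, hX]
  have hXdeg : ∀ χ ∈ X', (charDegree (χ : G → ℂ) = 10 ∧ εX χ = -1) ∨
      (charDegree (χ : G → ℂ) = 12 ∧ εX χ = 1) ∨ (charDegree (χ : G → ℂ) = 45 ∧ εX χ = 1) := by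
    intro χ hχ
    obtain ⟨hne, hmem⟩ := Finset.mem_erase.mp hχ
    obtain ⟨hs, hcong, -⟩ := hXp χ hmem
    have h1 := one_lt_charDegree hc hne
    have hsq := sq_sum_le h (S := {χ})
    rw [Finset.sum_singleton] at hsq
    have hlt : charDegree (χ : G → ℂ) < 89 := by nlinarith
    have hm : charDegree (χ : G → ℂ) % 11 = 1 ∨ charDegree (χ : G → ℂ) % 11 = 10 := by
      rcases hs with e | e <;> rw [e] at hcong <;> unfold Int.ModEq at hcong <;> omega
    have := key_f _ (Finset.mem_range.mpr hlt)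
      ⟨hdvd720 _ (h ▸ charDegree_dvd_card χ) (by omega), h1, hm⟩
    rcases this with e | e | e <;> rw [e] at hcong ⊢ <;> rcases hs with e' | e' <;> rw [e'] at hcong ⊢ <;>
      simp [Int.ModEq] at hcong ⊢
  set A := X'.filter fun χ : IrrCharacter G => charDegree (χ : G → ℂ) = 10
  set B12 := X'.filter fun χ : IrrCharacter G => charDegree (χ : G → ℂ) = 12
  set B45 := X'.filter fun χ : IrrCharacter G => charDegree (χ : G → ℂ) = 45
  have hdAB : Disjoint A B12 := Finset.disjoint_filter.mpr fun χ _ e1 e2 => by omega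
  have hdAC : Disjoint A B45 := Finset.disjoint_filter.mpr fun χ _ e1 e2 => by omega
  have hdBC : Disjoint B12 B45 := Finset.disjoint_filter.mpr fun χ _ e1 e2 => by omega
  have hunion : X' = A ∪ (B12 ∪ B45) := by
    ext χ
    simp only [A, B12, B45, Finset.mem_union, Finset.mem_filter]
    constructor
    · intro hχ; rcases hXdeg χ hχ with ⟨e, -⟩ | ⟨e, -⟩ | ⟨e, -⟩ <;> simp [hχ, e]
    · rintro (⟨h1, -⟩ | ⟨h1, -⟩ | ⟨h1, -⟩) <;> exact h1
  have hcardsum : A.card + B12.card + B45.card = 4 := by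
    rw [← hX'4, hunion, Finset.card_union_of_disjoint (Finset.disjoint_union_right.mpr ⟨hdAB, hdAC⟩),
      Finset.card_union_of_disjoint hdBC, add_assoc]
  have hsum : ∀ F : IrrCharacter G → ℂ, ∑ χ ∈ X, (εX χ : ℂ) * F χ =
      F (oneChar G) - ∑ χ ∈ A, F χ + ∑ χ ∈ B12, F χ + ∑ χ ∈ B45, F χ := by
    intro F
    rw [← Finset.add_sum_erase _ _ hone, ← hX', hε1, hunion,
      Finset.sum_union (Finset.disjoint_union_right.mpr ⟨hdAB, hdAC⟩), Finset.sum_union hdBC,
      Finset.sum_congr rfl (g := fun χ => -F χ) (fun χ hχ => ?_),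
      Finset.sum_congr rfl (s₂ := B12) (g := F) (fun χ hχ => ?_),
      Finset.sum_congr rfl (s₂ := B45) (g := F) (fun χ hχ => ?_), Finset.sum_neg_distrib]
    · push_cast; ring
    all_goals
      obtain ⟨hmem, hdeg⟩ := Finset.mem_filter.mp hχ
      rcases hXdeg χ hmem with ⟨e, e'⟩ | ⟨e, e'⟩ | ⟨e, e'⟩ <;> first | omega | simp [e']
  obtain ⟨θ, θ', hθne, hYeq⟩ := Finset.card_eq_two.mp (show Y.card = 2 by rw [hY])
  have hθY : θ ∈ Y := by rw [hYeq]; simp
  have hθY' : θ' ∈ Y := by rw [hYeq]; simp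
  have hε0 : (ε : ℂ) ≠ 0 := by rcases hε with rfl | rfl <;> norm_num
  have hsame : ∀ g : G, ¬ 11 ∣ orderOf g → (θ' : G → ℂ) g = (θ : G → ℂ) g := fun g hg =>
    mul_left_cancel₀ hε0 ((hrel θ' hθY' g hg).trans (hrel θ hθY g hg).symm)
  set d := charDegree (θ : G → ℂ) with hd'
  have hd2 : charDegree (θ' : G → ℂ) = d := charDegree_eq_of_map_one (by
    rw [hsame 1 (by simp), ← coe_charDegree])
  have hsumA : ∀ (S : Finset (IrrCharacter G)) (n : ℕ), (∀ χ ∈ S, charDegree (χ : G → ℂ) = n) →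
      ∑ χ ∈ S, (χ : G → ℂ) 1 = (n : ℂ) * S.card := fun S n hS => by
    rw [Finset.sum_congr rfl fun χ hχ => (coe_charDegree χ).symm.trans (congrArg Nat.cast (hS χ hχ)),
      Finset.sum_const, nsmul_eq_mul, mul_comm]
  have heq : ε * (d : ℤ) = 1 - 10 * A.card + 12 * B12.card + 45 * B45.card := by
    have h1 := hrel θ hθY 1 (by simp)
    rw [hsum fun χ => (χ : G → ℂ) 1, oneChar_apply, hsumA A 10 (fun χ hχ => (Finset.mem_filter.mp hχ).2),
      hsumA B12 12 (fun χ hχ => (Finset.mem_filter.mp hχ).2),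
      hsumA B45 45 (fun χ hχ => (Finset.mem_filter.mp hχ).2), ← coe_charDegree, ← hd'] at h1
    have h1' : ((ε * (d : ℤ) : ℤ) : ℂ) = ((1 - 10 * A.card + 12 * B12.card + 45 * B45.card : ℤ) : ℂ) := by
      push_cast at h1 ⊢; linear_combination h1
    exact_mod_cast h1'
  have hsqX : ∑ χ ∈ X ∪ Y, charDegree (χ : G → ℂ) ^ 2 =
      1 + 100 * A.card + 144 * B12.card + 2025 * B45.card + 2 * d * d := by
    rw [Finset.sum_union hd, ← Finset.add_sum_erase _ _ hone, ← hX', hunion,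
      Finset.sum_union (Finset.disjoint_union_right.mpr ⟨hdAB, hdAC⟩), Finset.sum_union hdBC, h1deg, hYeq, Finset.sum_pair hθne,
      hd2, ← hd',
      Finset.sum_congr rfl (g := fun _ => 100) (fun χ hχ => by rw [(Finset.mem_filter.mp hχ).2]; norm_num),
      Finset.sum_congr rfl (s₂ := B12) (g := fun _ => 144) (fun χ hχ => by rw [(Finset.mem_filter.mp hχ).2]; norm_num),
      Finset.sum_congr rfl (s₂ := B45) (g := fun _ => 2025) (fun χ hχ => by rw [(Finset.mem_filter.mp hχ).2]; norm_num)]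
    simp only [Finset.sum_const, smul_eq_mul]
    ring
  have hle := sq_sum_le h (S := X ∪ Y)
  rw [hsqX] at hle
  have hθc := hYp θ hθY
  rw [← hd'] at hθc
  have hdm : (d % 11 = 5 ∧ ε = 1) ∨ (d % 11 = 6 ∧ ε = -1) := by
    rcases hε with rfl | rfl <;> unfold Int.ModEq at hθc <;> push_cast at hθc <;> omega
  have hopts := key_options A.card (Finset.mem_range.mpr (by omega)) B12.card (Finset.mem_range.mpr (by omega))
    B45.card (Finset.mem_range.mpr (by omega)) d (by
      have hlt : d < 63 := by nlinarith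
      have := key_d d (Finset.mem_range.mpr hlt) ⟨hdvd720 d (h ▸ charDegree_dvd_card θ) (by omega), by omega⟩
      simp only [List.mem_cons, List.not_mem_nil, or_false]
      exact this)
    ⟨hcardsum, by rcases hdm with ⟨e, rfl⟩ | ⟨e, rfl⟩ <;> simp [e] <;> linarith, by linarith⟩
  have hεd : ε = 1 := by
    rcases hdm with ⟨-, e⟩ | ⟨e, -⟩
    · exact e
    · rcases hopts with ⟨-, -, -, e'⟩ | ⟨-, -, -, e'⟩ <;> omega
  subst hεd
  have hrel' : ∀ g : G, ¬ 11 ∣ orderOf g → (θ : G → ℂ) g =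
      1 - ∑ χ ∈ A, (χ : G → ℂ) g + ∑ χ ∈ B12, (χ : G → ℂ) g + ∑ χ ∈ B45, (χ : G → ℂ) g := fun g hg => by
    have h1 := hrel θ hθY g hg
    rw [hsum fun χ => (χ : G → ℂ) g, oneChar_apply, Int.cast_one, one_mul] at h1
    exact h1
  have hnotone : ∀ χ ∈ Y, χ ≠ oneChar G := fun χ hχ e => Finset.disjoint_left.mp hd hone (e ▸ hχ)
  -- degrees outside the 11-block
  have hother : ∀ χ, χ ∉ X → χ ∉ Y →
      11 ∣ charDegree (χ : G → ℂ) ∧ 121 ≤ charDegree (χ : G → ℂ) ^ 2 ∧
        charDegree (χ : G → ℂ) ^ 2 ≤ 7920 - (1 + 100 * A.card + 144 * B12.card + 2025 * B45.card + 2 * d * d) := by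
    intro χ h1 h2
    obtain ⟨hdiv, -⟩ := hout χ h1 h2
    have := sq_sum_le h (S := insert χ (X ∪ Y))
    rw [Finset.sum_insert (by simp [h1, h2]), hsqX] at this
    have hge := Nat.le_of_dvd (charDegree_pos χ) hdiv
    exact ⟨hdiv, by nlinarith, by omega⟩
  -- the prime 5
  obtain ⟨Q⟩ := (inferInstance : Nonempty (Sylow 5 G))
  obtain ⟨hQ, hNQ, hCQ⟩ := five_facts h Q
  obtain ⟨y, hy, hzy, hidy⟩ := CfsgLib.Blocks.OrderP.exists_generator_sylow Q hQ
  obtain ⟨M5, hM5⟩ := CfsgLib.Blocks.exists_isPModular 5 (by norm_num)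
  haveI := CfsgLib.Blocks.isMaximal_of_isPModular hM5
  have hCy' : Nat.card (Subgroup.centralizer ({y} : Set G)) =
      Nat.card (Subgroup.centralizer ((Q : Subgroup G) : Set G)) := by
    rw [← centralizer_zpowers, hzy]
  have hmulQ := Subgroup.relIndex_mul_relIndex (⊥ : Subgroup G) _ _ bot_le
    (Subgroup.centralizer_le_normalizer ((Q : Subgroup G) : Set G))
  rw [Subgroup.relIndex_bot_left, Subgroup.relIndex_bot_left, hNQ] at hmulQ
  rcases hopts with ⟨hA, hB12, hB45, hd16⟩ | ⟨hA, hB12, hB45, hd5⟩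
  swap
  · -- degrees 10, 10, 12, 12, 5
    exfalso
    rcases hCQ with hC | hC
    · rw [hC] at hmulQ
      have he : (Subgroup.centralizer ((Q : Subgroup G) : Set G)).relIndex
          (Subgroup.normalizer ((Q : Subgroup G) : Set G)) = 4 := by omega
      obtain ⟨X5, Y5, hd5', hB5, hX5, hY5, εX5, ε5, hε5, hXp5, hYp5, hrel5⟩ :=
        CfsgLib.Blocks.OrderP.principal_block_structure hM5 hy hidy (e := 4) (by rw [hzy]; exact he)
      obtain ⟨η, hη⟩ := Finset.card_pos.mp (show 0 < Y5.card by rw [hY5]; norm_num)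
      have hone5 : oneChar G ∈ X5 ∪ Y5 := Finset.mem_union.mpr ((hB5 _).mp CfsgLib.Blocks.oneChar_mem_principalBlock)
      have h11 : ∀ χ ∈ X5 ∪ Y5, χ ≠ oneChar G → 11 ∣ charDegree (χ : G → ℂ) := by
        intro χ hχ hne
        by_contra h11
        have hmod5 : charDegree (χ : G → ℂ) % 5 = 1 ∨ charDegree (χ : G → ℂ) % 5 = 4 := by
          rcases Finset.mem_union.mp hχ with hm | hm
          · obtain ⟨hs, hcong, -⟩ := hXp5 χ hm
            rcases hs with e | e <;> rw [e] at hcong <;> unfold Int.ModEq at hcong <;> omega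
          · have hcong := hYp5 χ hm
            rcases hε5 with e | e <;> rw [e] at hcong <;> unfold Int.ModEq at hcong <;> omega
        by_cases hX1 : χ ∈ X
        · rcases hXdeg χ (Finset.mem_erase.mpr ⟨hne, hX1⟩) with ⟨e, -⟩ | ⟨e, -⟩ | ⟨e, -⟩ <;> omega
        · by_cases hY1 : χ ∈ Y
          · rw [hYeq] at hY1
            simp only [Finset.mem_insert, Finset.mem_singleton] at hY1
            rcases hY1 with rfl | rfl <;> omega
          · exact h11 (hother χ hX1 hY1).1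
      have h1 := hrel5 η hη 1 (by simp)
      have hval : ((ε5 * charDegree (η : G → ℂ) : ℤ) : ℂ) =
          ((∑ χ ∈ X5, εX5 χ * (charDegree (χ : G → ℂ) : ℤ) : ℤ) : ℂ) := by
        push_cast
        simp only [coe_charDegree]
        exact h1
      have hval' : ε5 * (charDegree (η : G → ℂ) : ℤ) = ∑ χ ∈ X5, εX5 χ * (charDegree (χ : G → ℂ) : ℤ) := by
        exact_mod_cast hval
      rcases Finset.mem_union.mp hone5 with hm | hm
      · rw [← Finset.add_sum_erase _ _ hm, h1deg] at hval'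
        have hs1 : εX5 (oneChar G) = 1 := by
          obtain ⟨hs, hcong, -⟩ := hXp5 _ hm
          rw [h1deg] at hcong
          rcases hs with e | e
          · exact e
          · rw [e] at hcong; exact absurd hcong (by decide)
        have hdvd : (11 : ℤ) ∣ ∑ χ ∈ X5.erase (oneChar G), εX5 χ * (charDegree (χ : G → ℂ) : ℤ) :=
          Finset.dvd_sum fun χ hχ => dvd_mul_of_dvd_right (Int.natCast_dvd_natCast.mpr
            (h11 χ (Finset.mem_union_left _ (Finset.mem_erase.mp hχ).2) (Finset.mem_erase.mp hχ).1)) _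
        have hη1 : η ≠ oneChar G := fun e => Finset.disjoint_left.mp hd5' hm (e ▸ hη)
        have hdvd' : (11 : ℤ) ∣ ε5 * (charDegree (η : G → ℂ) : ℤ) :=
          dvd_mul_of_dvd_right (Int.natCast_dvd_natCast.mpr (h11 η (Finset.mem_union_right _ hη) hη1)) _
        rw [hs1] at hval'
        omega
      · have : ε5 * 1 = ∑ χ ∈ X5, εX5 χ * (charDegree (χ : G → ℂ) : ℤ) := by
          have hη' : η = oneChar G := (Finset.card_le_one.mp (by rw [hY5]) η hη _ hm)
          rw [hη', h1deg] at hval'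
          exact_mod_cast hval'
        have hdvd : (11 : ℤ) ∣ ∑ χ ∈ X5, εX5 χ * (charDegree (χ : G → ℂ) : ℤ) :=
          Finset.dvd_sum fun χ hχ => dvd_mul_of_dvd_right (Int.natCast_dvd_natCast.mpr
            (h11 χ (Finset.mem_union_left _ hχ) fun e => Finset.disjoint_left.mp hd5' hχ (e ▸ hm))) _
        rcases hε5 with e | e <;> rw [e] at this <;> omega
    · -- an involution commuting with `y`
      obtain ⟨⟨x, hxC⟩, hx2⟩ := exists_prime_orderOf_dvd_card' (G := Subgroup.centralizer ({y} : Set G)) 2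
        (by rw [hCy', hC]; norm_num)
      rw [Subgroup.orderOf_mk] at hx2
      have hxy : Commute x y := Subgroup.mem_centralizer_singleton_iff.mp hxC
      set g := y * x
      have hg : orderOf g = 10 := by
        rw [hxy.symm.orderOf_mul_eq_mul_orderOf_of_coprime (by rw [hy, hx2]; norm_num), hy, hx2]
      have hvan : ∀ k : ℕ, 5 ∣ orderOf (g ^ k) → (θ : G → ℂ) (g ^ k) = 0 := fun k hk =>
        CfsgLib.Chars.Brauer.eq_zero_of_defect_zero (by norm_num : Nat.Prime 5) θ (a := 1) (m := 1584)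
          (by rw [h]; norm_num) (by norm_num) (by rw [pow_one, ← hd', hd5]) hk
      letI := Fintype.ofFinite (Subgroup.zpowers g)
      obtain ⟨m, hm⟩ := CfsgLib.Blocks.exists_sum_subgroup_eq θ (Subgroup.zpowers g)
      have hx : g ^ 5 = x := by
        rw [hxy.symm.mul_pow, ← hy, pow_orderOf_eq_one, one_mul, hy, show 5 = 2 * 2 + 1 by norm_num,
          pow_succ, pow_mul, show x ^ 2 = 1 by rw [← hx2, pow_orderOf_eq_one], one_pow, one_mul]
      have hsum10 : ∑ z : Subgroup.zpowers g, (θ : G → ℂ) z = ∑ i ∈ Finset.range 10, (θ : G → ℂ) (g ^ i) := by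
        symm
        refine Finset.sum_bij (fun i _ => (⟨g ^ i, Subgroup.pow_mem _ (Subgroup.mem_zpowers g) i⟩ : Subgroup.zpowers g))
          (fun i _ => Finset.mem_univ _) (fun i hi j hj e => ?_) (fun z _ => ?_) (fun i _ => rfl)
        · exact pow_injOn_Iio_orderOf (hg.symm ▸ Finset.mem_range.1 hi) (hg.symm ▸ Finset.mem_range.1 hj)
            (congrArg Subtype.val e)
        · obtain ⟨i, hi, hiz⟩ := Finset.mem_image.mp ((mem_zpowers_iff_mem_range_orderOf).mp z.2)
          exact ⟨i, hg ▸ hi, Subtype.ext hiz⟩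
      have h0 : ∀ i ∈ Finset.range 10, i ≠ 0 ∧ i ≠ 5 → (θ : G → ℂ) (g ^ i) = 0 := fun i hi hne => hvan i (by
        rw [orderOf_pow, hg]
        have hi' := Finset.mem_range.mp hi
        obtain ⟨h0', h5'⟩ := hne
        interval_cases i <;> first | contradiction | omega | norm_num)
      rw [Nat.card_zpowers, hg, hsum10] at hm
      simp only [Finset.sum_range_succ, Finset.sum_range_zero, zero_add, pow_zero] at hm
      rw [h0 1 (by simp) (by simp), h0 2 (by simp) (by simp), h0 3 (by simp) (by simp), h0 4 (by simp) (by simp),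
        h0 6 (by simp) (by simp), h0 7 (by simp) (by simp), h0 8 (by simp) (by simp), h0 9 (by simp) (by simp),
        hx, ← coe_charDegree, ← hd', hd5] at hm
      have hxv : (θ : G → ℂ) x = ((10 * m - 5 : ℤ) : ℂ) := by push_cast at hm ⊢; linear_combination hm
      have hle5 := norm_apply_le (isCharacter_coe θ) x
      rw [← coe_charDegree, ← hd', hd5, hxv, Complex.norm_intCast, Complex.norm_natCast] at hle5
      have habs : |(10 * m - 5 : ℤ)| ≤ 5 := by exact_mod_cast hle5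
      have hx1 : x ≠ 1 := fun e => by rw [e, orderOf_one] at hx2; norm_num at hx2
      refine hx1 (eq_one_of_norm_eq hc (hnotone θ hθY) ?_)
      rw [hxv, Complex.norm_intCast, ← hd', hd5]
      rw [abs_le] at habs
      have : (m : ℤ) = 0 ∨ (m : ℤ) = 1 := by omega
      rcases this with e | e <;> rw [e] <;> norm_num
  -- degrees 10, 10, 10, 45, 16
  rw [hA, hB12, hB45, hd16] at hother
  have hB12e : B12 = ∅ := Finset.card_eq_zero.mp hB12
  have hdeg_cases : ∀ χ : IrrCharacter G, charDegree (χ : G → ℂ) ∈ ([1, 10, 45, 16, 11, 22, 33, 44, 55, 66] : List ℕ) ∧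
      (charDegree (χ : G → ℂ) = 16 → χ ∈ Y) := by
    intro χ
    by_cases h1 : χ = oneChar G
    · rw [h1, h1deg]; simp
    by_cases hX1 : χ ∈ X
    · rcases hXdeg χ (Finset.mem_erase.mpr ⟨h1, hX1⟩) with ⟨e, -⟩ | ⟨e, -⟩ | ⟨e, -⟩
      · rw [e]; simp
      · have hm : χ ∈ B12 := Finset.mem_filter.mpr ⟨Finset.mem_erase.mpr ⟨h1, hX1⟩, e⟩
        rw [hB12e] at hm
        exact absurd hm (Finset.notMem_empty _)
      · rw [e]; simp
    by_cases hY1 : χ ∈ Y
    · refine ⟨?_, fun _ => hY1⟩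
      rw [hYeq] at hY1
      simp only [Finset.mem_insert, Finset.mem_singleton] at hY1
      rcases hY1 with rfl | rfl
      · rw [← hd', hd16]; simp
      · rw [hd2, hd16]; simp
    obtain ⟨hdiv, -, hsq⟩ := hother χ hX1 hY1
    have hlt : charDegree (χ : G → ℂ) < 89 := by nlinarith
    have := key_eleven _ (Finset.mem_range.mpr hlt) ⟨h ▸ charDegree_dvd_card χ, hdiv⟩
    have hpos := charDegree_pos χ
    rcases this with e | e | e | e | e | e | e | e <;> rw [e] at hsq hpos ⊢ <;> first | omega | simp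
  have he4 : Nat.card (Subgroup.centralizer ((Q : Subgroup G) : Set G)) = 5 := by
    refine hCQ.resolve_right fun hC => ?_
    rw [hC] at hmulQ
    obtain ⟨X5, Y5, hd5', hB5, hX5, hY5, εX5, ε5, hε5, hXp5, hYp5, hrel5⟩ :=
      CfsgLib.Blocks.OrderP.principal_block_structure hM5 hy hidy (e := 2) (by rw [hzy]; omega)
    have hone5 : oneChar G ∈ X5 := by
      refine ((hB5 _).mp CfsgLib.Blocks.oneChar_mem_principalBlock).resolve_right fun hmemY => ?_
      have h1 := hYp5 _ hmemY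
      rw [h1deg] at h1
      rcases hε5 with rfl | rfl <;> exact absurd h1 (by decide)
    obtain ⟨χ, hχ⟩ := Finset.card_eq_one.mp (show (X5.erase (oneChar G)).card = 1 by
      rw [Finset.card_erase_of_mem hone5, hX5])
    have hχX : χ ∈ X5.erase (oneChar G) := by rw [hχ]; simp
    obtain ⟨η, hη⟩ := Finset.card_pos.mp (show 0 < Y5.card by rw [hY5]; norm_num)
    have h1 := hrel5 η hη 1 (by simp)
    rw [← Finset.add_sum_erase _ _ hone5, hχ, Finset.sum_singleton, oneChar_apply,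
      ← coe_charDegree, ← coe_charDegree] at h1
    obtain ⟨hs, hcong, -⟩ := hXp5 χ (Finset.mem_erase.mp hχX).2
    obtain ⟨hs1, hcong1, -⟩ := hXp5 _ hone5
    rw [h1deg] at hcong1
    have hs1' : εX5 (oneChar G) = 1 := by
      rcases hs1 with e | e
      · exact e
      · rw [e] at hcong1; exact absurd hcong1 (by decide)
    rw [hs1'] at h1
    have h1' : ε5 * (charDegree (η : G → ℂ) : ℤ) = 1 + εX5 χ * (charDegree (χ : G → ℂ) : ℤ) := by
      have : ((ε5 * (charDegree (η : G → ℂ) : ℤ) : ℤ) : ℂ) =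
          ((1 + εX5 χ * (charDegree (χ : G → ℂ) : ℤ) : ℤ) : ℂ) := by push_cast at h1 ⊢; linear_combination h1
      exact_mod_cast this
    have hηc := hYp5 η hη
    have h1f := one_lt_charDegree hc (Finset.mem_erase.mp hχX).1
    have h1η := charDegree_pos η
    refine key_consecutive _ (hdeg_cases η).1 _ (hdeg_cases χ).1 ⟨?_, ?_⟩ ?_
    · rcases hs with e | e <;> rcases hε5 with e' | e' <;> rw [e, e'] at h1' <;> omega
    · rcases hs with e | e <;> rw [e] at hcong <;> unfold Int.ModEq at hcong <;> omega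
    · rcases hε5 with e' | e' <;> rw [e'] at hηc <;> unfold Int.ModEq at hηc <;> omega
  have hCy : Subgroup.centralizer ({y} : Set G) = Subgroup.zpowers y :=
    (Subgroup.eq_of_le_of_card_ge (Subgroup.zpowers_le.mpr (Subgroup.mem_centralizer_singleton_iff.mpr rfl))
      (by rw [hCy', he4, Nat.card_zpowers, hy])).symm
  rw [he4] at hmulQ
  obtain ⟨X5, Y5, hd5', hB5, hX5, hY5, εX5, ε5, hε5, hXp5, hYp5, hrel5⟩ :=
    CfsgLib.Blocks.OrderP.principal_block_structure hM5 hy hidy (e := 4) (by rw [hzy]; omega)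
  obtain ⟨η, hY5eq⟩ := Finset.card_eq_one.mp (show Y5.card = 1 by rw [hY5])
  have hηY : η ∈ Y5 := by rw [hY5eq]; simp
  let s : IrrCharacter G → ℤ := fun χ => if charDegree (χ : G → ℂ) % 5 = 1 then 1 else -1
  set B5 := X5 ∪ Y5
  have hmod5 : ∀ χ ∈ B5, (charDegree (χ : G → ℂ) % 5 = 1 ∨ charDegree (χ : G → ℂ) % 5 = 4) ∧
      (χ ∈ X5 → εX5 χ = s χ) ∧ (χ ∈ Y5 → -ε5 = s χ) := by
    intro χ hχ
    rcases Finset.mem_union.mp hχ with hm | hm
    · obtain ⟨hs, hcong, -⟩ := hXp5 χ hm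
      have hnY : χ ∉ Y5 := Finset.disjoint_left.mp hd5' hm
      rcases hs with e | e <;> rw [e] at hcong <;> unfold Int.ModEq at hcong
      · have : charDegree (χ : G → ℂ) % 5 = 1 := by omega
        exact ⟨.inl this, fun _ => by simp [s, this, e], fun h' => absurd h' hnY⟩
      · have : charDegree (χ : G → ℂ) % 5 = 4 := by omega
        exact ⟨.inr this, fun _ => by simp [s, this, e], fun h' => absurd h' hnY⟩
    · have hcong := hYp5 χ hm
      have hnX : χ ∉ X5 := Finset.disjoint_right.mp hd5' hm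
      rcases hε5 with e | e <;> rw [e] at hcong <;> unfold Int.ModEq at hcong
      · have : charDegree (χ : G → ℂ) % 5 = 4 := by omega
        exact ⟨.inr this, fun h' => absurd h' hnX, fun _ => by simp [s, this, e]⟩
      · have : charDegree (χ : G → ℂ) % 5 = 1 := by omega
        exact ⟨.inl this, fun h' => absurd h' hnX, fun _ => by simp [s, this, e]⟩
  have hrelB5 : ∀ g : G, ¬ 5 ∣ orderOf g → ∑ χ ∈ B5, (s χ : ℂ) * (χ : G → ℂ) g = 0 := by
    intro g hg
    rw [Finset.sum_union hd5', hY5eq, Finset.sum_singleton,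
      Finset.sum_congr rfl (fun χ hχ => by rw [← (hmod5 χ (Finset.mem_union_left _ hχ)).2.1 hχ]),
      ← (hmod5 η (Finset.mem_union_right _ hηY)).2.2 hηY, ← hrel5 η hηY g hg]
    push_cast
    ring
  have hnot5 : ∀ χ, χ ∉ B5 → 5 ∣ charDegree (χ : G → ℂ) := fun χ hχ =>
    (outside_block hM5 hy hidy (by rw [hCy', he4]) fun hm => hχ (Finset.mem_union.mpr ((hB5 χ).mp hm))).1
  have hθB : θ ∈ B5 := by_contra fun hn => by have := hnot5 θ hn; rw [← hd', hd16] at this; norm_num at this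
  have hθB' : θ' ∈ B5 := by_contra fun hn => by have := hnot5 θ' hn; rw [hd2, hd16] at this; norm_num at this
  have hone5 : oneChar G ∈ B5 := Finset.mem_union.mpr ((hB5 _).mp CfsgLib.Blocks.oneChar_mem_principalBlock)
  set R := ((B5.erase (oneChar G)).erase θ).erase θ'
  have hθ1 : θ ∈ B5.erase (oneChar G) := Finset.mem_erase.mpr ⟨hnotone θ hθY, hθB⟩
  have hθ2 : θ' ∈ (B5.erase (oneChar G)).erase θ :=
    Finset.mem_erase.mpr ⟨hθne.symm, Finset.mem_erase.mpr ⟨hnotone θ' hθY', hθB'⟩⟩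
  obtain ⟨α, β, hαβ, hR⟩ := Finset.card_eq_two.mp (show R.card = 2 by
    rw [Finset.card_erase_of_mem hθ2, Finset.card_erase_of_mem hθ1, Finset.card_erase_of_mem hone5,
      Finset.card_union_of_disjoint hd5', hX5, hY5])
  have hαR : α ∈ R := by rw [hR]; simp
  have hβR : β ∈ R := by rw [hR]; simp
  have hsθ : s θ = 1 ∧ s θ' = 1 ∧ s (oneChar G) = 1 := by
    refine ⟨?_, ?_, ?_⟩
    · simp [s, ← hd', hd16]
    · simp [s, hd2, hd16]
    · simp [s, h1deg]
  have hrelR : ∀ g : G, ¬ 5 ∣ orderOf g → 1 + (θ : G → ℂ) g + (θ' : G → ℂ) g +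
      (s α : ℂ) * (α : G → ℂ) g + (s β : ℂ) * (β : G → ℂ) g = 0 := by
    intro g hg
    have := hrelB5 g hg
    rw [← Finset.add_sum_erase _ _ hone5, ← Finset.add_sum_erase _ _ hθ1, ← Finset.add_sum_erase _ _ hθ2,
      show ((B5.erase (oneChar G)).erase θ).erase θ' = {α, β} from hR, Finset.sum_pair hαβ,
      hsθ.1, hsθ.2.1, hsθ.2.2, oneChar_apply] at this
    push_cast at this
    linear_combination this
  have hRdeg : ∀ χ ∈ R, (charDegree (χ : G → ℂ) = 11 ∧ s χ = 1) ∨ (charDegree (χ : G → ℂ) = 44 ∧ s χ = -1) ∨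
      (charDegree (χ : G → ℂ) = 66 ∧ s χ = 1) := by
    intro χ hχ
    simp only [R, Finset.mem_erase] at hχ
    obtain ⟨hn', hn, hn1, hmem⟩ := hχ
    obtain ⟨hl, h16⟩ := hdeg_cases χ
    have hm := (hmod5 χ hmem).1
    have h1 := one_lt_charDegree hc hn1
    simp only [List.mem_cons, List.not_mem_nil, or_false] at hl
    rcases hl with e | e | e | e | e | e | e | e | e | e
    · omega
    · omega
    · omega
    · exfalso
      have := h16 e
      rw [hYeq] at this
      simp only [Finset.mem_insert, Finset.mem_singleton] at this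
      exact this.elim hn hn'
    · exact .inl ⟨e, by simp [s, e]⟩
    · omega
    · omega
    · exact .inr (.inl ⟨e, by simp [s, e]⟩)
    · omega
    · exact .inr (.inr ⟨e, by simp [s, e]⟩)
  have hdeg0 : (1 : ℤ) + 32 + s α * charDegree (α : G → ℂ) + s β * charDegree (β : G → ℂ) = 0 := by
    have h1 := hrelR 1 (by simp)
    rw [← coe_charDegree, ← coe_charDegree, ← coe_charDegree, ← coe_charDegree, hd2, ← hd', hd16] at h1
    have : (((1 : ℤ) + 32 + s α * charDegree (α : G → ℂ) + s β * charDegree (β : G → ℂ) : ℤ) : ℂ) = 0 := by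
      push_cast at h1 ⊢; linear_combination h1
    exact_mod_cast this
  obtain ⟨c11, g44, hc11, hg44, hRcg⟩ : ∃ c11 g44 : IrrCharacter G, (charDegree (c11 : G → ℂ) = 11 ∧ s c11 = 1) ∧
      (charDegree (g44 : G → ℂ) = 44 ∧ s g44 = -1) ∧ R = {c11, g44} := by
    rcases hRdeg α hαR with ⟨e1, e2⟩ | ⟨e1, e2⟩ | ⟨e1, e2⟩ <;>
      rcases hRdeg β hβR with ⟨f1, f2⟩ | ⟨f1, f2⟩ | ⟨f1, f2⟩ <;> rw [e1, e2, f1, f2] at hdeg0
    all_goals first
      | (norm_num at hdeg0; done)
      | exact ⟨α, β, ⟨e1, e2⟩, ⟨f1, f2⟩, hR⟩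
      | exact ⟨β, α, ⟨f1, f2⟩, ⟨e1, e2⟩, by rw [hR, Finset.pair_comm]⟩
  obtain ⟨a1, a2, a3, h12, h13, h23, hAeq⟩ := Finset.card_eq_three.mp hA
  obtain ⟨b, hBeq⟩ := Finset.card_eq_one.mp hB45
  have hAmem : ∀ χ ∈ A, charDegree (χ : G → ℂ) = 10 ∧ (χ : G → ℂ) u = -1 ∧ χ ∈ X := by
    intro χ hχ
    obtain ⟨hm, hdeg⟩ := Finset.mem_filter.mp hχ
    refine ⟨hdeg, ?_, (Finset.mem_erase.mp hm).2⟩
    rw [hXv χ (Finset.mem_erase.mp hm).2]
    rcases hXdeg χ hm with ⟨-, e⟩ | ⟨e, -⟩ | ⟨e, -⟩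
    · rw [e]; norm_num
    all_goals omega
  have ha1 := hAmem a1 (by rw [hAeq]; simp)
  have ha2 := hAmem a2 (by rw [hAeq]; simp)
  have ha3 := hAmem a3 (by rw [hAeq]; simp)
  have hb : charDegree (b : G → ℂ) = 45 ∧ (b : G → ℂ) u = 1 ∧ b ∈ X := by
    obtain ⟨hm, hdeg⟩ := Finset.mem_filter.mp (show b ∈ B45 by rw [hBeq]; simp)
    refine ⟨hdeg, ?_, (Finset.mem_erase.mp hm).2⟩
    rw [hXv b (Finset.mem_erase.mp hm).2]
    rcases hXdeg b hm with ⟨e, -⟩ | ⟨e, -⟩ | ⟨-, e⟩
    · omega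
    · omega
    · rw [e]; norm_num
  have hout' : ∀ χ : IrrCharacter G, 11 ∣ charDegree (χ : G → ℂ) → χ ∉ X ∧ χ ∉ Y := by
    intro χ hdiv
    refine ⟨fun hm => ?_, fun hm => ?_⟩
    · by_cases h1 : χ = oneChar G
      · rw [h1, h1deg] at hdiv; norm_num at hdiv
      · rcases hXdeg χ (Finset.mem_erase.mpr ⟨h1, hm⟩) with ⟨e, -⟩ | ⟨e, -⟩ | ⟨e, -⟩ <;> omega
    · rw [hYeq] at hm
      simp only [Finset.mem_insert, Finset.mem_singleton] at hm
      rcases hm with rfl | rfl <;> omega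
  have hc11out := hout' c11 (by rw [hc11.1])
  have hg44out := hout' g44 (by rw [hg44.1]; norm_num)
  -- the last one
  set S : Finset (IrrCharacter G) := X ∪ Y ∪ {c11, g44}
  have hcg : c11 ≠ g44 := fun e => by rw [e, hg44.1] at hc11; omega
  have hdisj : Disjoint (X ∪ Y) {c11, g44} := by
    simp [Finset.disjoint_insert_right, hc11out.1, hc11out.2, hg44out.1, hg44out.2]
  have hsqS : ∑ χ ∈ S, charDegree (χ : G → ℂ) ^ 2 = 4895 := by
    rw [Finset.sum_union hdisj, hsqX, hA, hB12, hB45, hd16, Finset.sum_pair hcg, hc11.1, hg44.1]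
    norm_num
  have hrest : ∀ χ ∈ Sᶜ, 55 ∣ charDegree (χ : G → ℂ) ∧ 55 ≤ charDegree (χ : G → ℂ) := by
    intro χ hχ
    simp only [S, Finset.mem_compl, Finset.mem_union, Finset.mem_insert, Finset.mem_singleton, not_or] at hχ
    obtain ⟨⟨hX1, hY1⟩, hc', hg'⟩ := hχ
    have h11 := (hother χ hX1 hY1).1
    have h5 : 5 ∣ charDegree (χ : G → ℂ) := by
      refine hnot5 χ fun hm => ?_
      have hne1 : χ ≠ oneChar G := fun e => hX1 (e ▸ hone)
      have hneθ : χ ≠ θ := fun e => hY1 (e ▸ hθY)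
      have hneθ' : χ ≠ θ' := fun e => hY1 (e ▸ hθY')
      have : χ ∈ R := Finset.mem_erase.mpr ⟨hneθ', Finset.mem_erase.mpr ⟨hneθ, Finset.mem_erase.mpr ⟨hne1, hm⟩⟩⟩
      rw [hRcg] at this
      simp only [Finset.mem_insert, Finset.mem_singleton] at this
      exact this.elim hc' hg'
    have := Nat.Coprime.mul_dvd_of_dvd_of_dvd (by norm_num : Nat.Coprime 11 5) h11 h5
    exact ⟨this, Nat.le_of_dvd (charDegree_pos χ) this⟩
  have hcompl : ∑ χ ∈ Sᶜ, charDegree (χ : G → ℂ) ^ 2 = 3025 := by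
    have := sum_charDegree_sq (G := G)
    rw [h, ← Finset.sum_add_sum_compl S, hsqS] at this
    omega
  obtain ⟨q, hq⟩ : ∃ q, Sᶜ = {q} := by
    refine Finset.card_eq_one.mp ?_
    have h1 := Finset.card_nsmul_le_sum Sᶜ (fun χ => charDegree (χ : G → ℂ) ^ 2) 3025 fun χ hχ =>
      le_trans (by norm_num) (Nat.pow_le_pow_left (hrest χ hχ).2 2)
    rw [hcompl, smul_eq_mul] at h1
    have h2 : Sᶜ.card ≠ 0 := fun e => by rw [Finset.card_eq_zero.mp e, Finset.sum_empty] at hcompl; omega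
    omega
  have hq55 : charDegree (q : G → ℂ) = 55 := by
    rw [hq, Finset.sum_singleton] at hcompl
    exact Nat.pow_left_injective (n := 2) (by norm_num) (show charDegree (q : G → ℂ) ^ 2 = 55 ^ 2 by rw [hcompl])
  have hqout := hout' q (by rw [hq55]; norm_num)
  have hqS : q ∉ S := Finset.mem_compl.mp (by rw [hq]; simp)
  let tab : Fin 10 → IrrCharacter G := ![oneChar G, a1, a2, a3, b, θ, θ', c11, g44, q]
  have hdeg : ∀ i, charDegree (tab i : G → ℂ) = degs i := by
    intro i; fin_cases i <;> simp [tab, degs, h1deg, ha1.1, ha2.1, ha3.1, hb.1, ← hd', hd16, hd2, hc11.1, hg44.1, hq55]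
  have hbij : Function.Bijective tab := by
    constructor
    · intro i j e
      have e' : degs i = degs j := by rw [← hdeg i, ← hdeg j, e]
      fin_cases i <;> fin_cases j <;> first
        | rfl
        | (simp [degs] at e'; done)
        | (simp [tab, h12, h13, h23, h12.symm, h13.symm, h23.symm, hθne, hθne.symm] at e; done)
    · intro χ
      by_cases h1 : χ ∈ S
      · simp only [S, Finset.mem_union, Finset.mem_insert, Finset.mem_singleton] at h1
        rcases h1 with (hm | hm) | rfl | rfl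
        · by_cases h2 : χ = oneChar G
          · exact ⟨0, h2.symm⟩
          · have hm' : χ ∈ X' := Finset.mem_erase.mpr ⟨h2, hm⟩
            rw [hunion, hB12e, Finset.empty_union, hAeq, hBeq] at hm'
            simp only [Finset.mem_union, Finset.mem_insert, Finset.mem_singleton] at hm'
            rcases hm' with (rfl | rfl | rfl) | rfl
            exacts [⟨1, rfl⟩, ⟨2, rfl⟩, ⟨3, rfl⟩, ⟨4, rfl⟩]
        · rw [hYeq] at hm
          simp only [Finset.mem_insert, Finset.mem_singleton] at hm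
          rcases hm with rfl | rfl
          exacts [⟨5, rfl⟩, ⟨6, rfl⟩]
        · exact ⟨7, rfl⟩
        · exact ⟨8, rfl⟩
      · have : χ ∈ Sᶜ := Finset.mem_compl.mpr h1
        rw [hq, Finset.mem_singleton] at this
        exact ⟨9, this.symm⟩
  have hval5 : (θ : G → ℂ) u + (θ' : G → ℂ) u = -1 := by
    have horth := sum_irr_map_one_mul u
    rw [if_neg (fun e => by rw [e, orderOf_one] at hu; norm_num at hu)] at horth
    have hB : ∀ i : Fin 10, (tab i : G → ℂ) 1 * (tab i : G → ℂ) u =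
        (degs i : ℂ) * (tab i : G → ℂ) u := fun i => by rw [← coe_charDegree, hdeg]
    rw [← Fintype.sum_bijective tab hbij _ _ (fun i => rfl), Finset.sum_congr rfl fun i _ => hB i,
      Fin.sum_univ_succ] at horth
    simp only [Fin.sum_univ_succ, Fin.sum_univ_zero, tab, degs, Matrix.cons_val_zero, Matrix.cons_val_succ,
      oneChar_apply, ha1.2.1, ha2.2.1, ha3.2.1, hb.2.1, (hout c11 hc11out.1 hc11out.2).2,
      (hout g44 hg44out.1 hg44out.2).2, (hout q hqout.1 hqout.2).2] at horth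
    push_cast at horth
    linear_combination horth / 16
  refine ⟨⟨tab, hbij, hdeg, rfl, u, hu, hCu, ha1.2.1, ha2.2.1, ha3.2.1, hb.2.1,
    (hout c11 hc11out.1 hc11out.2).2, (hout g44 hg44out.1 hg44out.2).2,
    (hout q hqout.1 hqout.2).2, hval5, y, hy, hCy, ?_, ?_⟩⟩
  · intro g hg
    refine ⟨?_, hsame g hg⟩
    show (θ : G → ℂ) g = 1 - (a1 : G → ℂ) g - (a2 : G → ℂ) g - (a3 : G → ℂ) g + (b : G → ℂ) g
    rw [hrel' g hg, hB12e, Finset.sum_empty, hBeq, Finset.sum_singleton, hAeq,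
      Finset.sum_insert (by simp [h12, h13]), Finset.sum_pair h23]
    ring
  · intro g hg
    show 1 + (θ : G → ℂ) g + (θ' : G → ℂ) g + (c11 : G → ℂ) g - (g44 : G → ℂ) g = 0
    have h1 := hrelR g hg
    have hpair : ({c11, g44} : Finset _) = {α, β} := by rw [← hRcg, hR]
    have h2 : ∑ χ ∈ ({α, β} : Finset (IrrCharacter G)), (s χ : ℂ) * (χ : G → ℂ) g =
        ∑ χ ∈ ({c11, g44} : Finset (IrrCharacter G)), (s χ : ℂ) * (χ : G → ℂ) g := by rw [hpair]
    rw [Finset.sum_pair hαβ, Finset.sum_pair hcg, hc11.2, hg44.2] at h2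
    push_cast at h2
    linear_combination h1 - h2

end CfsgLib.M11Order
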