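import Cfsg.Agent.M11Order.Degrees
import Cfsg.Agent.Blocks.AbelianFrobenius.IndexThree
import Mathlib

/-!
# Involutions of a simple group of order 7920
-/

set_option autoImplicit false
set_option linter.style.haveILetI false

namespace CfsgLib.M11Order

open Cfsg CfsgLib.Chars CfsgLib.SylowToolkit
open scoped ComplexConjugate Pointwise

universe u

def checkInvolution (b t a₁ a₂ c : ℤ) : Bool :=
  let a₃ := 1 + b - t - a₁ - a₂
  let g := 1 + 2 * t + c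
  let num := 1 + 10 * (1 + b - t) + 11 * c + 32 * t + 44 * g + 45 * b
  !((720 - 72 * (a₁ * a₁ + a₂ * a₂ + a₃ * a₃) + 16 * b * b - 45 * t * t == 0) &&
    ((num % 55 == 0) &&
      (decide (1 + a₁ * a₁ + a₂ * a₂ + a₃ * a₃ + b * b + 2 * t * t ≤ 144) &&
        (144 % (1 + a₁ * a₁ + a₂ * a₂ + a₃ * a₃ + b * b + 2 * t * t + c * c + g * g + (num / 55) * (num / 55)) == 0)))) ||
    ((b == -3) && ((t == 0) && ((c == 3) &&
      (((a₁ == 2) && (a₂ == -2)) || (((a₁ == -2) && (a₂ == 2)) || ((a₁ == -2) && (a₂ == -2)))))))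

theorem checkInvolution_all :
    (([-9, -6, -3, 0, 3, 6, 9] : List ℤ).all fun b => ([-8, -4, 0, 4, 8] : List ℤ).all fun t =>
      ([-5, -4, -3, -2, -1, 0, 1, 2, 3, 4, 5] : List ℤ).all fun a₁ =>
        ([-5, -4, -3, -2, -1, 0, 1, 2, 3, 4, 5] : List ℤ).all fun a₂ =>
          ([-11, -10, -9, -8, -7, -6, -5, -4, -3, -2, -1, 0, 1, 2, 3, 4, 5, 6, 7, 8, 9, 10, 11] : List ℤ).all
            fun c => checkInvolution b t a₁ a₂ c) = true := by
  decide +kernel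

theorem key_involution {b : ℤ} (hb : b ∈ ([-9, -6, -3, 0, 3, 6, 9] : List ℤ)) {t : ℤ}
    (ht : t ∈ ([-8, -4, 0, 4, 8] : List ℤ))
    {a₁ : ℤ} (h1 : a₁ ∈ ([-5, -4, -3, -2, -1, 0, 1, 2, 3, 4, 5] : List ℤ))
    {a₂ : ℤ} (h2 : a₂ ∈ ([-5, -4, -3, -2, -1, 0, 1, 2, 3, 4, 5] : List ℤ))
    (he : 720 - 72 * (a₁ * a₁ + a₂ * a₂ + (1 + b - t - a₁ - a₂) * (1 + b - t - a₁ - a₂)) + 16 * b * b - 45 * t * t = 0 ∧
      1 + a₁ * a₁ + a₂ * a₂ + (1 + b - t - a₁ - a₂) * (1 + b - t - a₁ - a₂) + b * b + 2 * t * t ≤ 144)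
    {c : ℤ} (hc : c ∈ ([-11, -10, -9, -8, -7, -6, -5, -4, -3, -2, -1, 0, 1, 2, 3, 4, 5, 6, 7, 8, 9, 10, 11] : List ℤ))
    (hn : (1 + 10 * (1 + b - t) + 11 * c + 32 * t + 44 * (1 + 2 * t + c) + 45 * b) % 55 = 0 ∧
        144 % (1 + a₁ * a₁ + a₂ * a₂ + (1 + b - t - a₁ - a₂) * (1 + b - t - a₁ - a₂) + b * b + 2 * t * t + c * c +
          (1 + 2 * t + c) * (1 + 2 * t + c) + ((1 + 10 * (1 + b - t) + 11 * c + 32 * t + 44 * (1 + 2 * t + c) + 45 * b) / 55) *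
            ((1 + 10 * (1 + b - t) + 11 * c + 32 * t + 44 * (1 + 2 * t + c) + 45 * b) / 55)) = 0) :
    b = -3 ∧ t = 0 ∧ c = 3 ∧
      ((a₁ = 2 ∧ a₂ = -2) ∨ (a₁ = -2 ∧ a₂ = 2) ∨ (a₁ = -2 ∧ a₂ = -2)) := by
  have h := List.all_eq_true.mp (List.all_eq_true.mp (List.all_eq_true.mp (List.all_eq_true.mp
    (List.all_eq_true.mp checkInvolution_all b hb) t ht) a₁ h1) a₂ h2) c hc
  simp only [checkInvolution, Bool.or_eq_true, Bool.and_eq_true, Bool.not_eq_true', Bool.and_eq_false_iff,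
    beq_iff_eq, beq_eq_false_iff_ne, decide_eq_false_iff_not, decide_eq_true_eq] at h
  rcases h with (h | h | h | h) | h
  · exact absurd he.1 h
  · exact absurd hn.1 h
  · exact absurd he.2 h
  · exact absurd hn.2 h
  · exact h

theorem mem_int_list {n : ℤ} {N : ℤ} (h : n * n ≤ N * N) (hN : 0 ≤ N) : -N ≤ n ∧ n ≤ N :=
  abs_le.mp (abs_le_of_sq_le_sq (by rw [sq, sq]; exact h) hN)

theorem sum_ten {M : Type*} [AddCommMonoid M] (F : Fin 10 → M) :
    ∑ i, F i = F 0 + F 1 + F 2 + F 3 + F 4 + F 5 + F 6 + F 7 + F 8 + F 9 := by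
  simp only [Fin.sum_univ_succ, Fin.sum_univ_zero, add_zero, add_assoc]
  rfl

theorem degs_values : degs 0 = 1 ∧ degs 1 = 10 ∧ degs 2 = 10 ∧ degs 3 = 10 ∧ degs 4 = 45 ∧ degs 5 = 16 ∧
    degs 6 = 16 ∧ degs 7 = 11 ∧ degs 8 = 44 ∧ degs 9 = 55 := by decide

section
variable {G : Type u} [Group G] [Fintype G] [IsSimpleGroup G] (h : Nat.card G = 7920)

include h

omit [IsSimpleGroup G] h in
theorem card_centralizer_sylow_eq {p : ℕ} [Fact p.Prime] (P R : Sylow p G) :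
    Nat.card (Subgroup.centralizer ((P : Subgroup G) : Set G)) =
      Nat.card (Subgroup.centralizer ((R : Subgroup G) : Set G)) := by
  obtain ⟨g, hg⟩ := MulAction.exists_smul_eq G P R
  rw [← hg, Sylow.coe_subgroup_smul]
  refine Nat.card_congr ((MulAut.conj g).toEquiv.subtypeEquiv fun x => ?_)
  rw [Subgroup.mem_centralizer_iff, Subgroup.mem_centralizer_iff]
  constructor
  · rintro hx _ ⟨y, hy, rfl⟩
    show g * y * g⁻¹ * (g * x * g⁻¹) = g * x * g⁻¹ * (g * y * g⁻¹)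
    calc g * y * g⁻¹ * (g * x * g⁻¹) = g * (y * x) * g⁻¹ := by group
      _ = g * x * g⁻¹ * (g * y * g⁻¹) := by rw [hx y hy]; group
  · intro hx y hy
    have h1 : g * y * g⁻¹ * (g * x * g⁻¹) = g * x * g⁻¹ * (g * y * g⁻¹) := hx (g * y * g⁻¹) ⟨y, hy, rfl⟩
    calc y * x = g⁻¹ * (g * y * g⁻¹ * (g * x * g⁻¹)) * g := by group
      _ = x * y := by rw [h1]; group

theorem centralizer_eleven {g : G} (hg : orderOf g = 11) :
    Subgroup.centralizer ({g} : Set G) = Subgroup.zpowers g := by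
  haveI : Fact (Nat.Prime 11) := ⟨by norm_num⟩
  obtain ⟨P, hP⟩ := (IsPGroup.of_card (n := 1) (show Nat.card (Subgroup.zpowers g) = 11 ^ 1 by
    rw [Nat.card_zpowers, hg, pow_one])).exists_le_sylow
  obtain ⟨hP', hC, -⟩ := eleven_facts' h P
  have he : Subgroup.zpowers g = (P : Subgroup G) :=
    Subgroup.eq_of_le_of_card_ge hP (by rw [hP', Nat.card_zpowers, hg])
  rw [← centralizer_zpowers, he, hC]

theorem centralizer_five (T : Table G) {g : G} (hg : orderOf g = 5) :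
    Subgroup.centralizer ({g} : Set G) = Subgroup.zpowers g := by
  haveI : Fact (Nat.Prime 5) := ⟨by norm_num⟩
  have hsyl : ∀ g : G, orderOf g = 5 → ∃ Q : Sylow 5 G, Subgroup.zpowers g = (Q : Subgroup G) := fun g hg => by
    obtain ⟨Q, hQ⟩ := (IsPGroup.of_card (n := 1) (show Nat.card (Subgroup.zpowers g) = 5 ^ 1 by
      rw [Nat.card_zpowers, hg, pow_one])).exists_le_sylow
    exact ⟨Q, Subgroup.eq_of_le_of_card_ge hQ (by rw [(five_facts h Q).1, Nat.card_zpowers, hg])⟩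
  obtain ⟨Q, hQ⟩ := hsyl g hg
  obtain ⟨R, hR⟩ := hsyl T.y T.hy
  refine (Subgroup.eq_of_le_of_card_ge
    (Subgroup.zpowers_le.mpr (Subgroup.mem_centralizer_singleton_iff.mpr rfl)) ?_).symm
  rw [← centralizer_zpowers g, hQ, card_centralizer_sylow_eq Q R, ← hR, centralizer_zpowers, T.hCy, hR,
    (five_facts h R).1, (five_facts h Q).1]

omit [IsSimpleGroup G] h in
theorem sum_table (T : Table G) (F : IrrCharacter G → ℂ) : ∑ χ, F χ = ∑ i, F (T.χ i) :=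
  (Fintype.sum_bijective T.χ T.bij _ _ fun _ => rfl).symm

/-- The values of the table at an involution. -/
theorem involution_values (T : Table G) {x : G} (hx : orderOf x = 2) :
    Nat.card (Subgroup.centralizer ({x} : Set G)) = 48 ∧
      (((T.χ 1 : G → ℂ) x = 2 ∧ (T.χ 2 : G → ℂ) x = -2 ∧ (T.χ 3 : G → ℂ) x = -2) ∨
        ((T.χ 1 : G → ℂ) x = -2 ∧ (T.χ 2 : G → ℂ) x = 2 ∧ (T.χ 3 : G → ℂ) x = -2) ∨
        ((T.χ 1 : G → ℂ) x = -2 ∧ (T.χ 2 : G → ℂ) x = -2 ∧ (T.χ 3 : G → ℂ) x = 2)) ∧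
      (T.χ 4 : G → ℂ) x = -3 ∧ (T.χ 5 : G → ℂ) x = 0 ∧ (T.χ 6 : G → ℂ) x = 0 ∧
      (T.χ 7 : G → ℂ) x = 3 ∧ (T.χ 8 : G → ℂ) x = 4 ∧ (T.χ 9 : G → ℂ) x = -1 := by
  classical
  haveI : Fact (Nat.Prime 11) := ⟨by norm_num⟩
  haveI : Fact (Nat.Prime 5) := ⟨by norm_num⟩
  choose v hv using fun i => CfsgLib.Blocks.AbelianFrobenius.exists_int_apply_two (T.χ i) hx
  have hx1 : x ≠ 1 := fun e => by rw [e, orderOf_one] at hx; norm_num at hx
  have hv0 : (T.χ 0 : G → ℂ) x = 1 := by rw [T.one, oneChar_apply]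
  obtain ⟨ht, ht'⟩ := T.rel11 x (by rw [hx]; norm_num)
  have hg := T.rel5 x (by rw [hx]; norm_num)
  have e5 : v 5 = 1 - v 1 - v 2 - v 3 + v 4 := by
    rw [hv, hv, hv, hv, hv] at ht; exact_mod_cast ht
  have e6 : v 6 = v 5 := by rw [hv, hv] at ht'; exact_mod_cast ht'
  have e8 : v 8 = 1 + v 5 + v 6 + v 7 := by
    rw [hv, hv, hv, hv] at hg
    have : (1 : ℤ) + v 5 + v 6 + v 7 - v 8 = 0 := by exact_mod_cast hg
    omega
  -- orthogonality with the identity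
  have h1 := sum_irr_map_one_mul x
  rw [if_neg hx1, sum_table T] at h1
  obtain ⟨d0, d1, d2, d3, d4, d5, d6, d7, d8, d9⟩ := degs_values
  simp only [← coe_charDegree, T.deg, sum_ten, d0, d1, d2, d3, d4, d5, d6, d7, d8, d9, hv0] at h1
  simp only [hv] at h1
  have e1 : 1 + 10 * v 1 + 10 * v 2 + 10 * v 3 + 45 * v 4 + 16 * v 5 + 16 * v 6 + 11 * v 7 + 44 * v 8 + 55 * v 9 = 0 := by
    have h1' : (((1 + 10 * v 1 + 10 * v 2 + 10 * v 3 + 45 * v 4 + 16 * v 5 + 16 * v 6 + 11 * v 7 + 44 * v 8 + 55 * v 9 : ℤ)) : ℂ) = 0 := by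
      push_cast at h1 ⊢
      linear_combination h1
    exact_mod_cast h1'
  -- the centralizer
  have h2 := sum_irr_mul_conj x x
  rw [if_pos (IsConj.refl x), sum_table T] at h2
  simp only [sum_ten, hv0, map_one, mul_one] at h2
  simp only [hv, map_intCast] at h2
  set C := Nat.card (Subgroup.centralizer ({x} : Set G))
  have e2 : (C : ℤ) = 1 + v 1 * v 1 + v 2 * v 2 + v 3 * v 3 + v 4 * v 4 + v 5 * v 5 + v 6 * v 6 + v 7 * v 7 + v 8 * v 8 + v 9 * v 9 := by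
    have h2' : ((C : ℤ) : ℂ) = ((1 + v 1 * v 1 + v 2 * v 2 + v 3 * v 3 + v 4 * v 4 + v 5 * v 5 + v 6 * v 6 + v 7 * v 7 + v 8 * v 8 + v 9 * v 9 : ℤ) : ℂ) := by
      push_cast at h2 ⊢
      linear_combination -h2
    exact_mod_cast h2'
  have hC144 : C ∣ 144 := by
    have hd : C ∣ 5 * (11 * 144) := by
      rw [show 5 * (11 * 144) = 7920 by norm_num, ← h]; exact Subgroup.card_subgroup_dvd_card _
    have hno : ∀ q, q = 5 ∨ q = 11 → ¬ q ∣ C := by
      intro q hq hdiv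
      haveI : Fact q.Prime := ⟨by rcases hq with rfl | rfl <;> norm_num⟩
      obtain ⟨⟨d, hdC⟩, hdq⟩ := exists_prime_orderOf_dvd_card' (G := Subgroup.centralizer ({x} : Set G)) q hdiv
      rw [Subgroup.orderOf_mk] at hdq
      have hxd : x ∈ Subgroup.centralizer ({d} : Set G) :=
        Subgroup.mem_centralizer_singleton_iff.mpr (Subgroup.mem_centralizer_singleton_iff.mp hdC).symm
      have hxz : x ∈ Subgroup.zpowers d := by
        rcases hq with rfl | rfl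
        · rwa [centralizer_five h T hdq] at hxd
        · rwa [centralizer_eleven h hdq] at hxd
      have := Subgroup.orderOf_dvd_natCard (s := Subgroup.zpowers d) hxz
      rw [Nat.card_zpowers, hx, hdq] at this
      rcases hq with rfl | rfl <;> norm_num at this
    exact (((Nat.Prime.coprime_iff_not_dvd (by norm_num)).mpr (hno 11 (.inr rfl))).symm).dvd_of_dvd_mul_left
      ((((Nat.Prime.coprime_iff_not_dvd (by norm_num)).mpr (hno 5 (.inl rfl))).symm).dvd_of_dvd_mul_left hd)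
  have hC : (C : ℤ) ≤ 144 := by exact_mod_cast Nat.le_of_dvd (by norm_num) hC144
  -- no conjugate of `x` inverts an element of order 11
  have hpairs : ∀ a : G, ¬ IsConj (x * (a * x * a⁻¹)) T.u := by
    intro a hconj
    obtain ⟨c, hc⟩ := isConj_iff.mp hconj
    set w := c * x * c⁻¹
    have hxx : x * x = 1 := by rw [← sq, ← hx, pow_orderOf_eq_one]
    have hxi : x⁻¹ = x := inv_eq_of_mul_eq_one_right hxx
    have hwinv : w * T.u * w⁻¹ = T.u⁻¹ := by
      rw [← hc]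
      simp only [w, mul_inv_rev, inv_inv, hxi]
      simp only [← mul_assoc, inv_mul_cancel_right]
      rw [mul_assoc c x x, hxx, mul_one]
    have hw : orderOf w = 2 := (orderOf_injective (MulAut.conj c).toMonoidHom (MulAut.conj c).injective x).trans hx
    obtain ⟨P, hP⟩ := (IsPGroup.of_card (n := 1) (show Nat.card (Subgroup.zpowers T.u) = 11 ^ 1 by
      rw [Nat.card_zpowers, T.hu, pow_one])).exists_le_sylow
    obtain ⟨hP', -, hN⟩ := eleven_facts' h P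
    have he : Subgroup.zpowers T.u = (P : Subgroup G) :=
      Subgroup.eq_of_le_of_card_ge hP (by rw [hP', Nat.card_zpowers, T.hu])
    have hwN : w ∈ Subgroup.normalizer ((P : Subgroup G) : Set G) := by
      rw [← he, Subgroup.mem_normalizer_iff_map_conj_eq, MonoidHom.map_zpowers]
      show Subgroup.zpowers (w * T.u * w⁻¹) = _
      rw [hwinv, Subgroup.zpowers_inv]
    have := Subgroup.orderOf_dvd_natCard (s := Subgroup.normalizer ((P : Subgroup G) : Set G)) hwN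
    rw [hw, hN] at this
    norm_num at this
  have h3 := sum_triple x x T.u
  haveI : IsEmpty {a : G // IsConj (x * (a * x * a⁻¹)) T.u} := ⟨fun a => hpairs a.1 a.2⟩
  rw [Nat.card_of_isEmpty (α := {a : G // IsConj (x * (a * x * a⁻¹)) T.u}), Nat.cast_zero, mul_zero,
    mul_eq_zero, sum_table T] at h3
  replace h3 := h3.resolve_left natCard_ne_zero
  have hu0 : (T.χ 0 : G → ℂ) T.u = 1 := by rw [T.one, oneChar_apply]
  simp only [← coe_charDegree, T.deg, sum_ten, d0, d1, d2, d3, d4, d5, d6, d7, d8, d9, hv0, hu0] at h3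
  simp only [T.val₁, T.val₂, T.val₃, T.val₄, T.val₇, T.val₈, T.val₉, map_one, map_neg, map_zero, hv] at h3
  have h56 : conj ((T.χ 5 : G → ℂ) T.u) + conj ((T.χ 6 : G → ℂ) T.u) = -1 := by
    rw [← map_add, T.val₅, map_neg, map_one]
  rw [e6] at h3
  have e3 : 720 - 72 * (v 1 * v 1 + v 2 * v 2 + v 3 * v 3) + 16 * v 4 * v 4 - 45 * v 5 * v 5 = 0 := by
    have h3' : ((720 - 72 * (v 1 * v 1 + v 2 * v 2 + v 3 * v 3) + 16 * v 4 * v 4 - 45 * v 5 * v 5 : ℤ) : ℂ) = 0 := by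
      push_cast at h3 ⊢
      linear_combination 720 * h3 - (45 * (v 5 : ℂ) * (v 5 : ℂ)) * h56
    exact_mod_cast h3'
  -- bounds
  have sq0 : ∀ i, 0 ≤ v i * v i := fun i => mul_self_nonneg _
  have hb : v 4 * v 4 ≤ 12 * 12 := by linarith [sq0 1, sq0 2, sq0 3, sq0 5, sq0 6, sq0 7, sq0 8, sq0 9]
  have hb3 : (3 : ℤ) ∣ v 4 := by
    have h9 : (3 : ℤ) ∣ 16 * (v 4 * v 4) :=
      ⟨-(240 - 24 * (v 1 * v 1 + v 2 * v 2 + v 3 * v 3) - 15 * (v 5 * v 5)), by linarith⟩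
    rcases Int.prime_three.dvd_mul.mp h9 with h' | h'
    · norm_num at h'
    · exact (Int.prime_three.dvd_mul.mp h').elim id id
  have hb' : v 4 ∈ ([-9, -6, -3, 0, 3, 6, 9] : List ℤ) := by
    obtain ⟨k, hk⟩ := hb3
    obtain ⟨l1, l2⟩ := mem_int_list hb (by norm_num)
    have hk4 : -4 ≤ k ∧ k ≤ 4 := ⟨by omega, by omega⟩
    obtain ⟨k1, k2⟩ := hk4
    have : v 4 ≠ 12 ∧ v 4 ≠ -12 := by
      constructor <;> intro e <;> rw [e] at e2 <;> nlinarith [sq0 1, sq0 2, sq0 3, sq0 5, sq0 6, sq0 7, sq0 8, sq0 9]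
    simp only [List.mem_cons, List.not_mem_nil, or_false]
    omega
  have ht8 : v 5 * v 5 ≤ 8 * 8 ∨ 65 ≤ v 5 * v 5 := by omega
  have ht : v 5 * v 5 ≤ 8 * 8 := by
    rcases ht8 with h' | h'
    · exact h'
    · have : 81 ≤ v 5 * v 5 := by
        by_contra hlt
        have : -9 < v 5 ∧ v 5 < 9 := ⟨by nlinarith, by nlinarith⟩
        nlinarith
      rw [e6] at e2
      linarith [sq0 1, sq0 2, sq0 3, sq0 4, sq0 7, sq0 8, sq0 9]
  have ht4 : v 5 ∈ ([-8, -4, 0, 4, 8] : List ℤ) := by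
    obtain ⟨l1, l2⟩ := mem_int_list ht (by norm_num)
    have h8 : (8 : ℤ) ∣ 45 * (v 5 * v 5) :=
      ⟨90 - 9 * (v 1 * v 1 + v 2 * v 2 + v 3 * v 3) + 2 * (v 4 * v 4), by linarith⟩
    simp only [List.mem_cons, List.not_mem_nil, or_false]
    generalize v 5 = t at h8 l1 l2 ⊢
    interval_cases t <;> omega
  have ha : ∀ i : Fin 10, (i = 1 ∨ i = 2) → v i ∈ ([-5, -4, -3, -2, -1, 0, 1, 2, 3, 4, 5] : List ℤ) := by
    intro i hi
    have hb9 : v 4 * v 4 ≤ 81 := by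
      simp only [List.mem_cons, List.not_mem_nil, or_false] at hb'
      rcases hb' with e | e | e | e | e | e | e <;> rw [e] <;> norm_num
    have : v i * v i ≤ 28 := by rcases hi with rfl | rfl <;> nlinarith [sq0 1, sq0 2, sq0 3, sq0 5]
    obtain ⟨l1, l2⟩ := mem_int_list (N := 6) (by linarith) (by norm_num)
    simp only [List.mem_cons, List.not_mem_nil, or_false]
    have : v i ≠ 6 ∧ v i ≠ -6 := by
      constructor <;> intro e <;> rw [e] at this <;> norm_num at this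
    omega
  have hc : v 7 ∈ ([-11, -10, -9, -8, -7, -6, -5, -4, -3, -2, -1, 0, 1, 2, 3, 4, 5, 6, 7, 8, 9, 10, 11] : List ℤ) := by
    obtain ⟨l1, l2⟩ := mem_int_list (n := v 7) (N := 12)
      (by linarith [sq0 1, sq0 2, sq0 3, sq0 4, sq0 5, sq0 6, sq0 8, sq0 9]) (by norm_num)
    have : v 7 ≠ 12 ∧ v 7 ≠ -12 := by
      constructor <;> intro e <;> rw [e] at e2 <;> nlinarith [sq0 1, sq0 2, sq0 3, sq0 4, sq0 5, sq0 6, sq0 8, sq0 9]
    simp only [List.mem_cons, List.not_mem_nil, or_false]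
    omega
  have ev3 : 1 + v 4 - v 5 - v 1 - v 2 = v 3 := by omega
  have ev9 : 1 + 10 * (1 + v 4 - v 5) + 11 * v 7 + 32 * v 5 + 44 * (1 + 2 * v 5 + v 7) + 45 * v 4 = -55 * v 9 := by omega
  have ev8 : 1 + 2 * v 5 + v 7 = v 8 := by omega
  have hkey := key_involution hb' ht4 (ha 1 (.inl rfl)) (ha 2 (.inr rfl))
    (by
      rw [ev3]
      refine ⟨e3, ?_⟩
      rw [e6] at e2
      linarith [sq0 7, sq0 8, sq0 9])
    hc (by
      rw [ev3, ev9, ev8]
      have h55 : (-55 * v 9) / 55 = -v 9 := by omega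
      refine ⟨by omega, ?_⟩
      rw [h55, neg_mul_neg, show (1 : ℤ) + v 1 * v 1 + v 2 * v 2 + v 3 * v 3 + v 4 * v 4 + 2 * v 5 * v 5 +
        v 7 * v 7 + v 8 * v 8 + v 9 * v 9 = (C : ℤ) by rw [e2, e6]; ring]
      exact Int.emod_eq_zero_of_dvd (by exact_mod_cast hC144))
  obtain ⟨k4, k5, k7, k12⟩ := hkey
  have k8 : v 8 = 4 := by omega
  have k9 : v 9 = -1 := by omega
  refine ⟨?_, ?_, by rw [hv, k4]; norm_num, by rw [hv, k5]; norm_num, by rw [hv, e6, k5]; norm_num,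
    by rw [hv, k7]; norm_num, by rw [hv, k8]; norm_num, by rw [hv, k9]; norm_num⟩
  · rcases k12 with ⟨k1, k2⟩ | ⟨k1, k2⟩ | ⟨k1, k2⟩ <;>
    · have k3 : v 3 = -2 ∨ v 3 = 2 := by omega
      rw [k1, k2, k4, e6, k5, k7, k8, k9] at e2
      rcases k3 with k3 | k3 <;> rw [k3] at e2 <;> omega
  · rcases k12 with ⟨k1, k2⟩ | ⟨k1, k2⟩ | ⟨k1, k2⟩
    · exact .inl ⟨by rw [hv, k1]; norm_num, by rw [hv, k2]; norm_num, by rw [hv, show v 3 = -2 by omega]; norm_num⟩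
    · exact .inr (.inl ⟨by rw [hv, k1]; norm_num, by rw [hv, k2]; norm_num, by rw [hv, show v 3 = -2 by omega]; norm_num⟩)
    · exact .inr (.inr ⟨by rw [hv, k1]; norm_num, by rw [hv, k2]; norm_num, by rw [hv, show v 3 = 2 by omega]; norm_num⟩)

end

end CfsgLib.M11Order
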