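import Cfsg.Agent.M11Order.Involution
import Cfsg.Agent.Chars.Brauer.Defect
import Mathlib

/-!
# The prime 3 in a simple group of order 7920
-/

set_option autoImplicit false
set_option linter.style.haveILetI false

namespace CfsgLib.M11Order

open Cfsg CfsgLib.Chars CfsgLib.SylowToolkit
open scoped ComplexConjugate Pointwise

universe u

theorem degs_unique : ∀ i : Fin 10, (i = 7 ∨ i = 8 ∨ i = 9) → ∀ j : Fin 10, degs j = degs i → j = i := by decide

theorem degs_ten : ∀ j : Fin 10, degs j = 10 → j = 1 ∨ j = 2 ∨ j = 3 := by decide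

section
variable {G : Type u} [Group G] [Fintype G] [IsSimpleGroup G] (h : Nat.card G = 7920)

include h

theorem card_sylow_three_subgroup (P : Sylow 3 G) :
    Nat.card (P : Subgroup G) = 9 ∧ IsMulCommutative (P : Subgroup G) := by
  have h9 : Nat.card (P : Subgroup G) = 9 := by
    rw [card_sylow_subgroup_eq (k := 2) (m := 880) (by rw [h]; norm_num) (by norm_num) P]; norm_num
  exact ⟨h9, IsPGroup.isMulCommutative_of_card_eq_prime_sq (p := 3) (by rw [h9]; norm_num)⟩

/-- The centralizer of an element of order 3 has order 18. -/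
theorem centralizer_three (T : Table G) {z : G} (hz : orderOf z = 3) :
    Nat.card (Subgroup.centralizer ({z} : Set G)) = 18 := by
  classical
  obtain ⟨x, hx⟩ := exists_prime_orderOf_dvd_card' (G := G) 2 (by rw [h]; norm_num)
  obtain ⟨-, hvx, x4, x5, x6, x7, x8, x9⟩ := involution_values h T hx
  obtain ⟨p, q, r, hp, hq, hr, hpqr, hr10, hrset⟩ : ∃ p q r : Fin 10, (T.χ p : G → ℂ) x = -2 ∧
      (T.χ q : G → ℂ) x = -2 ∧ (T.χ r : G → ℂ) x = 2 ∧
      (∀ F : Fin 10 → ℂ, F 1 + F 2 + F 3 = F p + F q + F r) ∧ degs r = 10 ∧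
      (∀ j, j = 1 ∨ j = 2 ∨ j = 3 → j = p ∨ j = q ∨ j = r) := by
    rcases hvx with ⟨e1, e2, e3⟩ | ⟨e1, e2, e3⟩ | ⟨e1, e2, e3⟩
    · exact ⟨2, 3, 1, e2, e3, e1, fun F => by ring, rfl, fun j hj => by tauto⟩
    · exact ⟨1, 3, 2, e1, e3, e2, fun F => by ring, rfl, fun j hj => by tauto⟩
    · exact ⟨1, 2, 3, e1, e2, e3, fun F => rfl, rfl, fun j hj => hj⟩
  obtain ⟨d0, d1, d2, d3, d4, d5, d6, d7, d8, d9⟩ := degs_values
  have hz1 : z ≠ 1 := fun e => by rw [e, orderOf_one] at hz; norm_num at hz
  have hb : (T.χ 4 : G → ℂ) z = 0 :=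
    CfsgLib.Chars.Brauer.eq_zero_of_defect_zero Nat.prime_three (T.χ 4) (a := 2) (m := 880)
      (by rw [h]; norm_num) (by norm_num) (by rw [T.deg, d4]; norm_num) (by rw [hz])
  have hreal : ∀ i : Fin 10, (i = 7 ∨ i = 8 ∨ i = 9) → conj ((T.χ i : G → ℂ) z) = (T.χ i : G → ℂ) z := by
    intro i hi
    refine conj_eq_of_unique (T.χ i) (fun ψ hψ => ?_) z
    obtain ⟨j, rfl⟩ := T.bij.2 ψ
    rw [T.deg, T.deg] at hψ
    rw [degs_unique i hi j hψ]
  have hreal_r : conj ((T.χ r : G → ℂ) z) = (T.χ r : G → ℂ) z := by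
    obtain ⟨j, hj⟩ := T.bij.2 (conjChar (T.χ r))
    have hdeg : degs j = 10 := by
      rw [← T.deg j, hj]
      refine charDegree_eq_of_map_one ?_
      rw [conjChar_apply, conj_map_one (isCharacter_coe _), ← coe_charDegree, T.deg, hr10]
    have hjx : (T.χ j : G → ℂ) x = 2 := by rw [hj, conjChar_apply, hr]; exact Complex.conj_ofNat 2
    have hjr : j = r := by
      rcases hrset j (degs_ten j hdeg) with rfl | rfl | rfl
      · rw [hp] at hjx; norm_num at hjx
      · rw [hq] at hjx; norm_num at hjx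
      · rfl
    rw [hjr] at hj
    conv_rhs => rw [hj]
    rw [conjChar_apply]
  obtain ⟨c, hc, hc3⟩ := exists_int_of_real_three (T.χ 7) hz (hreal 7 (.inl rfl))
  obtain ⟨g, hg, -⟩ := exists_int_of_real_three (T.χ 8) hz (hreal 8 (.inr (.inl rfl)))
  obtain ⟨w, hw, -⟩ := exists_int_of_real_three (T.χ 9) hz (hreal 9 (.inr (.inr rfl)))
  obtain ⟨a, ha, ha3⟩ := exists_int_of_real_three (T.χ r) hz hreal_r
  obtain ⟨hrel, h65⟩ := T.rel11 z (by rw [hz]; norm_num)
  have h5 := T.rel5 z (by rw [hz]; norm_num)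
  rw [h65, hc, hg] at h5
  have hreal5 : conj ((T.χ 5 : G → ℂ) z) = (T.χ 5 : G → ℂ) z := by
    have e : (T.χ 5 : G → ℂ) z = ((g : ℂ) - 1 - c) / 2 := by linear_combination h5 / 2
    rw [e]
    simp only [map_div₀, map_sub, map_one, map_intCast, map_ofNat]
  obtain ⟨t, ht, ht3⟩ := exists_int_of_real_three (T.χ 5) hz hreal5
  rw [T.deg, d5] at ht3
  rw [T.deg, d7] at hc3
  rw [T.deg, hr10] at ha3
  rw [ht] at h5 hrel
  have eg : g = 1 + 2 * t + c := by
    have : ((g : ℤ) : ℂ) = ((1 + 2 * t + c : ℤ) : ℂ) := by push_cast; linear_combination -h5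
    exact_mod_cast this
  set P := (T.χ p : G → ℂ) z with hP
  set Q := (T.χ q : G → ℂ) z with hQ
  have hsum3 : (T.χ 1 : G → ℂ) z + (T.χ 2 : G → ℂ) z + (T.χ 3 : G → ℂ) z = P + Q + a := by
    rw [hpqr fun i => (T.χ i : G → ℂ) z, ha]
  have hs : P + Q = ((1 - t - a : ℤ) : ℂ) := by push_cast; linear_combination -hsum3 + hrel + hb
  -- orthogonality with the identity
  have h1 := sum_irr_map_one_mul z
  rw [if_neg hz1, sum_table T, sum_ten] at h1
  simp only [← coe_charDegree, T.deg, d0, d1, d2, d3, d4, d5, d6, d7, d8, d9, T.one, oneChar_apply, hb, h65, ht, hc, hg, hw] at h1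
  have e1 : 1 + 10 * (1 - t) + 11 * c + 32 * t + 44 * g + 55 * w = 0 := by
    have : ((1 + 10 * (1 - t) + 11 * c + 32 * t + 44 * g + 55 * w : ℤ) : ℂ) = 0 := by
      push_cast at h1 hs ⊢
      linear_combination h1 - 10 * hsum3 - 10 * hs
    exact_mod_cast this
  -- orthogonality with the involution
  have hnc : ¬ IsConj x z := fun hconj => by
    obtain ⟨k, hk⟩ := isConj_iff.mp hconj
    have := (orderOf_injective (MulAut.conj k).toMonoidHom (MulAut.conj k).injective x).symm.trans (by
      show orderOf (k * x * k⁻¹) = _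
      rw [hk])
    omega
  have h2 := sum_irr_mul_conj x z
  rw [if_neg hnc, sum_table T, sum_ten] at h2
  have hsum3x : (T.χ 1 : G → ℂ) x * conj ((T.χ 1 : G → ℂ) z) + (T.χ 2 : G → ℂ) x * conj ((T.χ 2 : G → ℂ) z) +
      (T.χ 3 : G → ℂ) x * conj ((T.χ 3 : G → ℂ) z) = -2 * conj (P + Q) + 2 * a := by
    rw [hpqr fun i => (T.χ i : G → ℂ) x * conj ((T.χ i : G → ℂ) z), hp, hq, hr, hreal_r, ha, map_add, hP, hQ]
    ring
  rw [hs, map_intCast] at hsum3x
  simp only [T.one, oneChar_apply, map_one, x4, x5, x6, x7, x8, x9, hb, map_zero, hc, hg, hw, map_intCast] at h2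
  have e2 : 1 - 2 * (1 - t - a) + 2 * a + 3 * c + 4 * g - w = 0 := by
    have : ((1 - 2 * (1 - t - a) + 2 * a + 3 * c + 4 * g - w : ℤ) : ℂ) = 0 := by
      push_cast at h2 hsum3x ⊢
      linear_combination h2 - hsum3x
    exact_mod_cast this
  -- the centralizer
  set C := Nat.card (Subgroup.centralizer ({z} : Set G))
  have h3 := sum_irr_mul_conj z z
  rw [if_pos (IsConj.refl z), sum_table T, sum_ten] at h3
  have hsum3z : (T.χ 1 : G → ℂ) z * conj ((T.χ 1 : G → ℂ) z) + (T.χ 2 : G → ℂ) z * conj ((T.χ 2 : G → ℂ) z) +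
      (T.χ 3 : G → ℂ) z * conj ((T.χ 3 : G → ℂ) z) = ((Complex.normSq P + Complex.normSq Q : ℝ) : ℂ) + a * a := by
    rw [hpqr fun i => (T.χ i : G → ℂ) z * conj ((T.χ i : G → ℂ) z), hreal_r, ha, ← hP, ← hQ, Complex.mul_conj,
      Complex.mul_conj, Complex.ofReal_add]
  simp only [T.one, oneChar_apply, map_one, hb, map_zero, h65, ht, hc, hg, hw, map_intCast] at h3
  set W : ℤ := (C : ℤ) - (1 + a * a + 2 * t * t + c * c + g * g + w * w) with hW
  have hWeq : Complex.normSq P + Complex.normSq Q = (W : ℝ) := by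
    apply Complex.ofReal_injective
    rw [Complex.ofReal_intCast, hW]
    push_cast at h3 hsum3z ⊢
    linear_combination h3 - hsum3z
  have hWs : (1 - t - a) * (1 - t - a) ≤ 2 * W := by
    have h4 : Complex.normSq (P + Q) + Complex.normSq (P - Q) = 2 * (Complex.normSq P + Complex.normSq Q) := by
      rw [Complex.normSq_add, Complex.normSq_sub]; ring
    rw [hs, hWeq, Complex.normSq_intCast] at h4
    have h5 := Complex.normSq_nonneg (P - Q)
    have : (((1 - t - a) * (1 - t - a) : ℤ) : ℝ) ≤ ((2 * W : ℤ) : ℝ) := by push_cast at h4 ⊢; linarith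
    exact_mod_cast this
  -- a class multiplication coefficient
  have h4 := sum_triple z z⁻¹ T.u
  set k := Nat.card {b : G // IsConj (z * (b * z⁻¹ * b⁻¹)) T.u}
  rw [sum_table T, sum_ten, h, centralizer_eleven h T.hu, Nat.card_zpowers, T.hu] at h4
  simp only [map_inv_eq_conj (isCharacter_coe _)] at h4
  simp only [← coe_charDegree, T.deg, d0, d1, d2, d3, d4, d5, d6, d7, d8, d9, T.one, oneChar_apply, map_one, hb,
    map_zero, h65, ht, hc, hg, hw, map_intCast, T.val₁, T.val₂, T.val₃, T.val₄, T.val₇, T.val₈, T.val₉, map_neg] at h4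
  have h56 : conj ((T.χ 5 : G → ℂ) T.u) + conj ((T.χ 6 : G → ℂ) T.u) = -1 := by
    rw [← map_add, T.val₅, map_neg, map_one]
  have e3 : 7920 - 792 * (W + a * a) - 495 * t * t = 11 * (k : ℤ) := by
    have : ((7920 - 792 * (W + a * a) - 495 * t * t : ℤ) : ℂ) = ((11 * (k : ℤ) : ℤ) : ℂ) := by
      rw [hWeq, Complex.ofReal_intCast] at hsum3z
      push_cast at h4 hsum3z ⊢
      linear_combination h4 + 792 * hsum3z - (495 * (t : ℂ) * (t : ℂ)) * h56
    exact_mod_cast this
  -- arithmetic
  obtain ⟨S, hS⟩ := (IsPGroup.of_card (n := 1) (show Nat.card (Subgroup.zpowers z) = 3 ^ 1 by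
    rw [Nat.card_zpowers, hz, pow_one])).exists_le_sylow
  obtain ⟨hS9, hScomm⟩ := card_sylow_three_subgroup h S
  have h9 : 9 ∣ C := by
    rw [← hS9]
    refine Subgroup.card_dvd_of_le fun s hs => Subgroup.mem_centralizer_singleton_iff.mpr ?_
    exact congrArg Subtype.val (hScomm.is_comm.comm (⟨s, hs⟩ : (S : Subgroup G)) ⟨z, hS (Subgroup.mem_zpowers z)⟩)
  have hW0 : 0 ≤ W := by nlinarith
  have hk : (0 : ℤ) ≤ k := Nat.cast_nonneg k
  have ht4 : t * t ≤ 16 := by nlinarith
  obtain ⟨t1, t2⟩ := mem_int_list (n := t) (N := 4) (by linarith) (by norm_num)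
  have ha10 : a * a ≤ 16 := by nlinarith
  obtain ⟨a1, a2⟩ := mem_int_list (n := a) (N := 4) (by linarith) (by norm_num)
  have ec : 2 * c = 3 * (1 - t) - 4 - a := by omega
  unfold Int.ModEq at ht3 ha3
  obtain ⟨m, hm⟩ := h9
  have hCW : (C : ℤ) = W + (1 + a * a + 2 * t * t + c * c + g * g + w * w) := by rw [hW]; ring
  interval_cases t <;> first | omega | skip
  all_goals (interval_cases a <;> first | omega | skip)
  all_goals first
    | omega
    | (obtain rfl : c = -1 := by omega
       obtain rfl : g = 2 := by omega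
       obtain rfl : w = -2 := by omega
       norm_num at *
       omega)
    | (obtain rfl : c = 2 := by omega
       obtain rfl : g = -1 := by omega
       obtain rfl : w = 1 := by omega
       norm_num at *
       omega)

theorem card_normalizer_three (T : Table G) (P : Sylow 3 G) :
    Nat.card (Subgroup.normalizer ((P : Subgroup G) : Set G)) = 144 := by
  classical
  haveI : Fact (Nat.Prime 11) := ⟨by norm_num⟩
  haveI : Fact (Nat.Prime 5) := ⟨by norm_num⟩
  have hc := not_comm7920 h
  obtain ⟨h9, hcomm⟩ := card_sylow_three_subgroup h P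
  set N := Subgroup.normalizer ((P : Subgroup G) : Set G) with hN
  set C := Subgroup.centralizer ((P : Subgroup G) : Set G) with hC
  have hPC : (P : Subgroup G) ≤ C := fun a ha => Subgroup.mem_centralizer_iff.mpr fun b hb =>
    congrArg Subtype.val (hcomm.is_comm.comm (⟨b, hb⟩ : (P : Subgroup G)) ⟨a, ha⟩)
  have hordP : ∀ x ∈ (P : Subgroup G), x ≠ 1 → ∃ z ∈ Subgroup.zpowers x, orderOf z = 3 := by
    intro x hx hx1
    have hd := Subgroup.orderOf_dvd_natCard (s := (P : Subgroup G)) hx
    rw [h9] at hd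
    have key : ∀ n ∈ (9 : ℕ).divisors, n = 1 ∨ n = 3 ∨ n = 9 := by decide
    rcases key _ (Nat.mem_divisors.mpr ⟨hd, by norm_num⟩) with e | e | e
    · exact absurd (orderOf_eq_one_iff.mp e) hx1
    · exact ⟨x, Subgroup.mem_zpowers x, e⟩
    · exact ⟨x ^ 3, Subgroup.pow_mem _ (Subgroup.mem_zpowers x) 3, by rw [orderOf_pow, e]; norm_num⟩
  -- no element of order 5 or 11 normalizes `P`
  have hno : ∀ q : ℕ, q = 5 ∨ q = 11 → ¬ q ∣ Nat.card N := by
    intro q hq hdiv
    haveI : Fact q.Prime := ⟨by rcases hq with rfl | rfl <;> norm_num⟩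
    obtain ⟨⟨d, hdN⟩, hd⟩ := exists_prime_orderOf_dvd_card' (G := N) q hdiv
    rw [Subgroup.orderOf_mk] at hd
    set K := Subgroup.zpowers d
    let act : MulAction K (P : Subgroup G) :=
      { smul := fun k x => ⟨(k : G) * x * (k : G)⁻¹,
          (Subgroup.mem_normalizer_iff.mp ((Subgroup.zpowers_le.mpr hdN : K ≤ N) k.2) x).mp x.2⟩
        one_smul := fun x => Subtype.ext (by show ((1 : K) : G) * x * ((1 : K) : G)⁻¹ = x; simp)
        mul_smul := fun a b x => Subtype.ext (by
          show ((a * b : K) : G) * x * ((a * b : K) : G)⁻¹ = (a : G) * ((b : G) * x * (b : G)⁻¹) * (a : G)⁻¹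
          simp [mul_assoc]) }
    letI := act
    have hmod := (IsPGroup.of_card (n := 1) (show Nat.card K = q ^ 1 by
      rw [Nat.card_zpowers, hd, pow_one])).card_modEq_card_fixedPoints (P : Subgroup G)
    rw [h9] at hmod
    obtain ⟨x, hxfix, hx1⟩ : ∃ x ∈ MulAction.fixedPoints K (P : Subgroup G), x ≠ 1 := by
      by_contra hcon
      push Not at hcon
      have : MulAction.fixedPoints K (P : Subgroup G) = {1} := Set.eq_singleton_iff_unique_mem.mpr
        ⟨fun k => Subtype.ext (by
          show (k : G) * ((1 : (P : Subgroup G)) : G) * (k : G)⁻¹ = ((1 : (P : Subgroup G)) : G)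
          simp), hcon⟩
      rw [Nat.card_coe_set_eq, this, Set.ncard_singleton] at hmod
      rcases hq with rfl | rfl <;> exact absurd hmod (by decide)
    have hdx : d * (x : G) * d⁻¹ = x := congrArg Subtype.val (hxfix ⟨d, Subgroup.mem_zpowers d⟩)
    have hxd : (x : G) ∈ Subgroup.centralizer ({d} : Set G) :=
      Subgroup.mem_centralizer_singleton_iff.mpr (mul_inv_eq_iff_eq_mul.mp hdx).symm
    have hxz : (x : G) ∈ Subgroup.zpowers d := by
      rcases hq with rfl | rfl
      · rwa [centralizer_five h T hd] at hxd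
      · rwa [centralizer_eleven h hd] at hxd
    have h1 := Subgroup.orderOf_dvd_natCard (s := Subgroup.zpowers d) hxz
    have h2 := Subgroup.orderOf_dvd_natCard (s := (P : Subgroup G)) x.2
    rw [Nat.card_zpowers, hd] at h1
    rw [h9] at h2
    have h3 := Nat.dvd_gcd h1 h2
    rw [show Nat.gcd q 9 = 1 by rcases hq with rfl | rfl <;> norm_num] at h3
    exact hx1 (Subtype.ext (orderOf_eq_one_iff.mp (Nat.dvd_one.mp h3)))
  have hmul := card_normalizer_mul P
  rw [h, ← hN] at hmul
  have hd144 : Nat.card N ∣ 144 := by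
    have hd : Nat.card N ∣ 5 * (11 * 144) := by
      rw [show 5 * (11 * 144) = 7920 by norm_num]; exact ⟨_, hmul.symm⟩
    exact (((Nat.Prime.coprime_iff_not_dvd (by norm_num)).mpr (hno 11 (.inr rfl))).symm).dvd_of_dvd_mul_left
      ((((Nat.Prime.coprime_iff_not_dvd (by norm_num)).mpr (hno 5 (.inl rfl))).symm).dvd_of_dvd_mul_left hd)
  have h9N : 9 ∣ Nat.card N := h9 ▸ Subgroup.card_dvd_of_le Subgroup.le_normalizer
  have hmod3 := card_sylow_mod (p := 3) (G := G)
  have hN' : Nat.card N = 9 ∨ Nat.card N = 36 ∨ Nat.card N = 144 := by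
    have key : ∀ n ∈ (144 : ℕ).divisors, 9 ∣ n → n = 9 ∨ n = 18 ∨ n = 36 ∨ n = 72 ∨ n = 144 := by decide +kernel
    rcases key _ (Nat.mem_divisors.mpr ⟨hd144, by norm_num⟩) h9N with e | e | e | e | e <;> rw [e] at hmul <;> omega
  have hnle := not_normalizer_le_centralizer hc (by rw [h]; norm_num : 3 ∣ Nat.card G) P
  rcases hN' with e | e | e
  · exact absurd (fun a ha => hPC ((Subgroup.eq_of_le_of_card_ge Subgroup.le_normalizer (by rw [h9]; exact e.le)).ge ha)) hnle
  · exfalso
    -- the centralizer of `P` is `P`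
    have hC9 : C = (P : Subgroup G) := by
      refine (Subgroup.eq_of_le_of_card_ge hPC ?_).symm
      have hCd := Subgroup.card_dvd_of_le (Subgroup.centralizer_le_normalizer ((P : Subgroup G) : Set G))
      rw [← hC, ← hN, e] at hCd
      have h9C : 9 ∣ Nat.card C := h9 ▸ Subgroup.card_dvd_of_le hPC
      by_contra hgt
      rw [h9] at hgt
      have h2 : 2 ∣ Nat.card C := by
        have key : ∀ n ∈ (36 : ℕ).divisors, 9 ∣ n → ¬ n ≤ 9 → 2 ∣ n := by decide +kernel
        exact key _ (Nat.mem_divisors.mpr ⟨hCd, by norm_num⟩) h9C hgt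
      obtain ⟨⟨x, hxC⟩, hx⟩ := exists_prime_orderOf_dvd_card' (G := C) 2 h2
      rw [Subgroup.orderOf_mk] at hx
      have hle : (P : Subgroup G) ≤ Subgroup.centralizer ({x} : Set G) := fun a ha =>
        Subgroup.mem_centralizer_singleton_iff.mpr (Subgroup.mem_centralizer_iff.mp hxC a ha)
      have := Subgroup.card_dvd_of_le hle
      rw [h9, (involution_values h T hx).1] at this
      norm_num at this
    -- eight elements, three cosets fixing at most two each
    haveI : (((P : Subgroup G)).subgroupOf N).Normal := Subgroup.normal_in_normalizer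
    have hQ4 : Nat.card (N ⧸ (P : Subgroup G).subgroupOf N) = 4 := by
      have := Subgroup.card_eq_card_quotient_mul_card_subgroup ((P : Subgroup G).subgroupOf N)
      rw [Nat.card_congr (Subgroup.subgroupOfEquivOfLe Subgroup.le_normalizer).toEquiv, h9, e] at this
      omega
    have hwit : ∀ z : {z : (P : Subgroup G) // z ≠ 1}, ∃ g : N,
        (g : G) ∉ (P : Subgroup G) ∧ (g : G) * (z.1 : G) = (z.1 : G) * g := by
      rintro ⟨⟨z, hzP⟩, hz1⟩
      have hz1' : z ≠ 1 := fun e' => hz1 (Subtype.ext e')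
      obtain ⟨z₀, hz₀, hz₀3⟩ := hordP z hzP hz1'
      have h18 := centralizer_three h T hz₀3
      have hPz : (P : Subgroup G) ≤ Subgroup.centralizer ({z₀} : Set G) := fun a ha => by
        refine Subgroup.mem_centralizer_singleton_iff.mpr ?_
        obtain ⟨j, rfl⟩ := Subgroup.mem_zpowers_iff.mp hz₀
        exact ((show Commute a z from congrArg Subtype.val (hcomm.is_comm.comm (⟨a, ha⟩ : (P : Subgroup G)) ⟨z, hzP⟩)).zpow_right j).eq
      by_cases hz3 : orderOf z = 3
      · have h18' := centralizer_three h T hz3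
        have hPz' : (P : Subgroup G) ≤ Subgroup.centralizer ({z} : Set G) := fun a ha =>
          Subgroup.mem_centralizer_singleton_iff.mpr
            (congrArg Subtype.val (hcomm.is_comm.comm (⟨a, ha⟩ : (P : Subgroup G)) ⟨z, hzP⟩))
        have hi := Subgroup.relIndex_mul_relIndex (⊥ : Subgroup G) (P : Subgroup G) _ bot_le hPz'
        rw [Subgroup.relIndex_bot_left, Subgroup.relIndex_bot_left, h9, h18'] at hi
        have hle : Subgroup.centralizer ({z} : Set G) ≤ N :=
          (Subgroup.normal_subgroupOf_iff_le_normalizer hPz').mp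
            (Subgroup.normal_of_index_eq_two (show (P : Subgroup G).relIndex _ = 2 by omega))
        obtain ⟨g, hg, hgP⟩ : ∃ g ∈ Subgroup.centralizer ({z} : Set G), g ∉ (P : Subgroup G) := by
          by_contra hcon
          push Not at hcon
          have := Subgroup.card_le_of_le (show Subgroup.centralizer ({z} : Set G) ≤ (P : Subgroup G) from hcon)
          omega
        exact ⟨⟨g, hle hg⟩, hgP, Subgroup.mem_centralizer_singleton_iff.mp hg⟩
      · -- then `P` is cyclic and the centralizer of an element of order 3 would centralize it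
        exfalso
        have hd := Subgroup.orderOf_dvd_natCard (s := (P : Subgroup G)) hzP
        rw [h9] at hd
        have key : ∀ n ∈ (9 : ℕ).divisors, n ≠ 1 → n ≠ 3 → n = 9 := by decide
        have h9z := key _ (Nat.mem_divisors.mpr ⟨hd, by norm_num⟩) (fun e' => hz1' (orderOf_eq_one_iff.mp e')) hz3
        have hgen : Subgroup.zpowers z = (P : Subgroup G) :=
          Subgroup.eq_of_le_of_card_ge (Subgroup.zpowers_le.mpr hzP) (by rw [h9, Nat.card_zpowers, h9z])
        haveI : IsCyclic (P : Subgroup G) := hgen ▸ inferInstanceAs (IsCyclic (Subgroup.zpowers z))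
        have hr := relIndex_centralizer_dvd_card_mulAut (P : Subgroup G)
        rw [IsCyclic.card_mulAut, h9] at hr
        have hm := Subgroup.relIndex_mul_relIndex (⊥ : Subgroup G) C N bot_le
          (Subgroup.centralizer_le_normalizer _)
        rw [Subgroup.relIndex_bot_left, Subgroup.relIndex_bot_left, hC9, h9, e] at hm
        rw [← hC, ← hN, hC9] at hr
        have : (P : Subgroup G).relIndex N = 4 := by omega
        rw [this, show Nat.totient 9 = 6 by decide] at hr
        norm_num at hr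
    choose wit hwP hwz using hwit
    set f : {z : (P : Subgroup G) // z ≠ 1} → {c : N ⧸ (P : Subgroup G).subgroupOf N // c ≠ 1} := fun z =>
      ⟨QuotientGroup.mk (wit z), fun e' => hwP z ((QuotientGroup.eq_one_iff (wit z)).mp e' : wit z ∈ (P : Subgroup G).subgroupOf N)⟩
    have hfib : ∀ c, Nat.card {z // f z = c} ≤ 2 := by
      intro c
      by_cases hne : Nonempty {z // f z = c}
      · obtain ⟨⟨z₀, hz₀⟩⟩ := hne
        set F := (P : Subgroup G) ⊓ Subgroup.centralizer ({((wit z₀ : N) : G)} : Set G) with hF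
        have hF3 : Nat.card F ≤ 3 := by
          have hd : Nat.card F ∣ 9 := h9 ▸ Subgroup.card_dvd_of_le inf_le_left
          by_contra hgt
          have key : ∀ n ∈ (9 : ℕ).divisors, ¬ n ≤ 3 → n = 9 := by decide
          have hFeq : F = (P : Subgroup G) := Subgroup.eq_of_le_of_card_ge inf_le_left
            (by rw [key _ (Nat.mem_divisors.mpr ⟨hd, by norm_num⟩) hgt, h9])
          refine hwP z₀ ?_
          rw [← hC9, hC, Subgroup.mem_centralizer_iff]
          intro a ha
          exact Subgroup.mem_centralizer_singleton_iff.mp (Subgroup.mem_inf.mp (hFeq.symm ▸ ha : a ∈ F)).2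
        have hmem : ∀ z : {z // f z = c}, (z.1.1 : G) ∈ F := by
          rintro ⟨z, hz⟩
          have he := congrArg Subtype.val (hz.trans hz₀.symm)
          have hpm : ((wit z : N) : G)⁻¹ * (wit z₀ : N) ∈ (P : Subgroup G) := (QuotientGroup.eq.mp he : _)
          refine Subgroup.mem_inf.mpr ⟨z.1.2, Subgroup.mem_centralizer_singleton_iff.mpr ?_⟩
          have h1 : Commute (z.1 : G) ((wit z : N) : G) := (hwz z).symm
          have h2 : Commute (z.1 : G) (((wit z : N) : G)⁻¹ * (wit z₀ : N)) :=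
            congrArg Subtype.val (hcomm.is_comm.comm z.1 (⟨_, hpm⟩ : (P : Subgroup G)))
          have h3 := h1.mul_right h2
          rw [mul_inv_cancel_left] at h3
          exact h3.eq
        let j : {z // f z = c} → {a : F // a ≠ 1} := fun z => ⟨⟨(z.1.1 : G), hmem z⟩, fun e' =>
          z.1.2 (Subtype.ext (congrArg (fun t : F => (t : G)) e'))⟩
        have hj : Function.Injective j := fun a b e' => by
          have := congrArg (fun t : {a : F // a ≠ 1} => ((t.1 : F) : G)) e'
          exact Subtype.ext (Subtype.ext (Subtype.ext this))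
        haveI := Fintype.ofFinite F
        have := Nat.card_le_card_of_injective j hj
        rw [Nat.card_eq_fintype_card (α := {a : F // a ≠ 1}), Fintype.card_subtype_compl, Fintype.card_subtype_eq,
          ← Nat.card_eq_fintype_card] at this
        omega
      · rw [not_nonempty_iff] at hne
        rw [Nat.card_of_isEmpty]; omega
    haveI := Fintype.ofFinite {c : N ⧸ (P : Subgroup G).subgroupOf N // c ≠ 1}
    have h8 := Nat.card_congr (Equiv.sigmaFiberEquiv f).symm
    rw [Nat.card_sigma] at h8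
    have hle := Finset.sum_le_sum (s := Finset.univ) fun c _ => hfib c
    rw [← h8, Finset.sum_const, Finset.card_univ, smul_eq_mul] at hle
    haveI := Fintype.ofFinite (P : Subgroup G)
    haveI := Fintype.ofFinite (N ⧸ (P : Subgroup G).subgroupOf N)
    rw [Nat.card_eq_fintype_card, Fintype.card_subtype_compl, Fintype.card_subtype_eq,
      ← Nat.card_eq_fintype_card, h9] at hle
    have h3c : Fintype.card {c : N ⧸ (P : Subgroup G).subgroupOf N // c ≠ 1} = 3 := by
      rw [← Nat.card_eq_fintype_card, Nat.card_eq_fintype_card, Fintype.card_subtype_compl, Fintype.card_subtype_eq,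
        ← Nat.card_eq_fintype_card, hQ4]
    omega
  · exact e

end

end CfsgLib.M11Order
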